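import Mathlib

/-!
# Totally isotropic Frobenius-stable subspaces (S4880, piece B1)
-/

set_option autoImplicit false

namespace Cfsg.Agent.H25.IsoFrob

open Matrix

variable {K : Type*} [Field K] {B : Type*} [Fintype B]

/-- A subspace of `K^B` has a set of coordinates on which it projects isomorphically. -/
theorem exists_coord (U : Submodule K (B → K)) :
    ∃ (I : Type) (_ : Fintype I) (_ : DecidableEq I) (a : I → B) (φ : U ≃ₗ[K] (I → K)),
      Function.Injective a ∧ ∀ (u : U) (i : I), φ u i = (u : B → K) (a i) := by
  classical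
  set f : B → Module.Dual K U := fun b => (LinearMap.proj b).comp U.subtype with hf
  have hspan : Submodule.span K (Set.range f) = ⊤ := by
    rw [eq_top_iff]
    intro g _
    obtain ⟨h, hh⟩ := LinearMap.dualMap_surjective_of_injective
      (f := U.subtype) U.injective_subtype g
    rw [← hh]
    have : h = ∑ b, h (Pi.single b 1) • (LinearMap.proj b : (B → K) →ₗ[K] K) := by
      apply LinearMap.pi_ext'
      intro b
      ext
      simp [Pi.single_apply]
    rw [this]
    have : (U.subtype.dualMap) (∑ b, h (Pi.single b 1) • (LinearMap.proj b : (B → K) →ₗ[K] K)) =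
        ∑ b, h (Pi.single b 1) • f b := by
      simp [hf, LinearMap.dualMap_apply']
    rw [this]
    exact Submodule.sum_mem _ fun b _ => Submodule.smul_mem _ _ (Submodule.subset_span ⟨b, rfl⟩)
  obtain ⟨J, a, ha, hsp, hli⟩ := exists_linearIndependent' K f
  have : Finite J := Finite.of_injective a ha
  have : Fintype J := Fintype.ofFinite J
  -- transport to a `Type 0` index
  obtain ⟨n, ⟨eJ⟩⟩ : ∃ n, Nonempty (Fin n ≃ J) := ⟨Fintype.card J, ⟨(Fintype.equivFin J).symm⟩⟩
  refine ⟨Fin n, inferInstance, inferInstance, a ∘ eJ, ?_⟩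
  have hcard : n = Module.finrank K U := by
    have h1 := finrank_span_eq_card hli
    rw [hsp, hspan, finrank_top, Subspace.dual_finrank_eq] at h1
    rw [h1, ← Fintype.card_congr eJ, Fintype.card_fin]
  let g : U →ₗ[K] (Fin n → K) := LinearMap.pi fun i => f (a (eJ i))
  have hginj : Function.Injective g := by
    rw [← LinearMap.ker_eq_bot, LinearMap.ker_eq_bot']
    intro u hu
    have h0 : ∀ F : Module.Dual K U, F u = 0 := by
      intro F
      have hF : F ∈ Submodule.span K (Set.range (f ∘ a)) := by rw [hsp, hspan]; trivial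
      induction hF using Submodule.span_induction with
      | mem x hx =>
        obtain ⟨j, rfl⟩ := hx
        have := congrFun hu (eJ.symm j)
        simpa [g] using this
      | zero => rfl
      | add x y _ _ hx hy => simp [hx, hy]
      | smul c x _ hx => simp [hx]
    exact (Module.forall_dual_apply_eq_zero_iff K u).1 h0
  refine ⟨LinearEquiv.ofInjectiveOfFinrankEq g hginj (by simp [hcard]), ha.comp eJ.injective, ?_⟩
  intro u i
  rfl

/-- The statement B1 of `tools/plans/S4880_blk.lean.txt`. -/
theorem isotropic {K : Type*} [Field K] {p : ℕ} [Fact p.Prime] [CharP K p] {B : Type*} [Fintype B]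
    (U : Submodule K (B → K)) (hiso : ∀ v ∈ U, ∀ w ∈ U, ∑ b, v b * w b = 0)
    (hfrob : ∀ v ∈ U, (fun b => v b ^ p) ∈ U) (e : ℕ) (he : e ≤ Module.finrank K U) :
    2 * e ≤ Fintype.card B ∧ (p % 4 = 3 → Odd e → Fintype.card B ≠ 2 * e) := by
  classical
  obtain ⟨I, _, _, a, φ, ha, hφ⟩ := exists_coord U
  have hI : Fintype.card I = Module.finrank K U := by
    rw [φ.finrank_eq, Module.finrank_pi]
  set u : I → U := fun i => φ.symm (Pi.single i 1) with hu
  have hua : ∀ i j, (u i : B → K) (a j) = (Pi.single i 1 : I → K) j := by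
    intro i j
    rw [← hφ, hu]
    simp
  have hp0 : p ≠ 0 := (Fact.out : p.Prime).ne_zero
  have hfix : ∀ i b, (u i : B → K) b ^ p = (u i : B → K) b := by
    intro i
    have h1 : φ ⟨_, hfrob _ (u i).2⟩ = φ (u i) := by
      ext j
      rw [hφ, hφ]
      simp only [hua]
      by_cases h : j = i
      · subst h; simp
      · simp [h, hp0]
    have h2 := congrArg Subtype.val (φ.injective h1)
    intro b
    exact congrFun h2 b
  set J := {b : B // b ∉ Set.range a} with hJ
  let R : Matrix I J K := fun i b => (u i : B → K) b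
  have hsum : ∀ i j, (R * Rᵀ) i j = -(1 : Matrix I I K) i j := by
    intro i j
    have h1 := hiso _ (u i).2 _ (u j).2
    have h2 : ∑ b, (u i : B → K) b * (u j : B → K) b =
        ∑ k : I, (u i : B → K) (a k) * (u j : B → K) (a k) +
          ∑ b : J, (u i : B → K) b * (u j : B → K) b := by
      rw [← Fintype.sum_subtype_add_sum_subtype (fun b : B => b ∈ Set.range a)
        (fun b => (u i : B → K) b * (u j : B → K) b)]
      congr 1
      let ea : I ≃ {b : B // b ∈ Set.range a} := Equiv.ofInjective a ha
      refine Eq.trans ?_ (Fintype.sum_equiv ea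
        (fun k => (u i : B → K) (a k) * (u j : B → K) (a k))
        (fun b => (u i : B → K) b * (u j : B → K) b) (fun k => rfl)).symm
      congr 1
      exact congrArg (fun h => @Finset.univ _ h) (Subsingleton.elim _ _)
    rw [h2] at h1
    have h3 : ∑ k : I, (u i : B → K) (a k) * (u j : B → K) (a k) = (1 : Matrix I I K) i j := by
      simp only [hua, Pi.single_apply]
      simp [Matrix.one_apply, eq_comm]
    rw [h3] at h1
    rw [Matrix.mul_apply]
    exact eq_neg_of_add_eq_zero_right h1
  have hRR : R * Rᵀ = -1 := by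
    ext i j
    rw [hsum, Matrix.neg_apply]
  have hcard : Fintype.card B = Fintype.card I + Fintype.card J := by
    have h1 : Fintype.card I = Fintype.card {b : B // b ∈ Set.range a} :=
      Fintype.card_congr (Equiv.ofInjective a ha)
    have h2 : Fintype.card J = _ := Fintype.card_subtype_compl (fun b : B => b ∈ Set.range a)
    have h3 := Fintype.card_subtype_le (fun b : B => b ∈ Set.range a)
    omega
  have hle : Fintype.card I ≤ Fintype.card J := by
    have h1 : (R * Rᵀ).rank = Fintype.card I := by
      rw [hRR]
      exact Matrix.rank_of_isUnit _ isUnit_one.neg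
    have h2 := Matrix.rank_mul_le_left R Rᵀ
    have h3 := Matrix.rank_le_card_width R
    omega
  refine ⟨by omega, ?_⟩
  intro h3 hodd hB
  have hIe : Fintype.card I = e := by omega
  have hJe : Fintype.card J = Fintype.card I := by omega
  let σ : J ≃ I := Fintype.equivOfCardEq hJe
  let S : Matrix I I K := R.submatrix id σ.symm
  have hSS : S * Sᵀ = -1 := by
    have : S * Sᵀ = (R * Rᵀ) := by
      show R.submatrix id σ.symm * (R.submatrix id σ.symm)ᵀ = _
      rw [Matrix.transpose_submatrix, Matrix.submatrix_mul_equiv]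
      simp
    rw [this, hRR]
  have hd2 : S.det ^ 2 = -1 := by
    have := congrArg Matrix.det hSS
    rw [Matrix.det_mul, Matrix.det_transpose, Matrix.det_neg, Matrix.det_one, hIe,
      hodd.neg_one_pow] at this
    rw [sq, this]
    ring
  have hdp : S.det ^ p = S.det := by
    have h1 : (frobenius K p) S.det = ((frobenius K p).mapMatrix S).det := RingHom.map_det _ _
    have h2 : (frobenius K p).mapMatrix S = S := by
      ext i j
      exact hfix i (σ.symm j)
    rw [h2] at h1
    exact h1
  obtain ⟨k, hk⟩ : ∃ k, p = 4 * k + 3 := ⟨p / 4, by omega⟩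
  have h4 : S.det ^ p = -S.det := by
    rw [hk, pow_add, pow_mul]
    have : S.det ^ 4 = 1 := by
      calc S.det ^ 4 = (S.det ^ 2) ^ 2 := by ring
        _ = 1 := by rw [hd2]; ring
    rw [this, one_pow, one_mul]
    calc S.det ^ 3 = S.det ^ 2 * S.det := by ring
      _ = -S.det := by rw [hd2]; ring
  have h5 : S.det + S.det = 0 := by
    have := hdp.symm.trans h4
    rw [eq_neg_iff_add_eq_zero] at this
    exact this
  have hne : S.det ≠ 0 := by
    intro h
    rw [h] at hd2
    simp at hd2
  have h2 : (2 : K) = 0 := by
    rw [← two_mul] at h5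
    exact (mul_eq_zero.1 h5).resolve_right hne
  have h6 : ((2 : ℕ) : K) = 0 := by exact_mod_cast h2
  rw [CharP.cast_eq_zero_iff K p] at h6
  have := Nat.le_of_dvd (by norm_num) h6
  omega

end Cfsg.Agent.H25.IsoFrob
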