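import Mathlib
import Cfsg.Agent.H25.Quiet
import Cfsg.Agent.H26.LayIn
import Cfsg.Agent.H104.TwoLines
import Cfsg.Agent.H254.CopDef
import Cfsg.Agent.SignalizersComponents.QuasisimpleQuotient

/-!
# Noncyclic abelian coprime groups of automorphisms and components

`comp_fixed` : `A` a noncyclic abelian `r`-group acting on `G`, `r` prime to `|G|`, such that for all `1 ≠ a ∈ A`
the components of `C_G(a)` are centralised by `A`.  Then the components of `G` are centralised by `A`.
-/

set_option autoImplicit false

namespace Cfsg.Agent.H25.LayFix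

open Subgroup Cfsg
open scoped commutatorElement
open Cfsg.Agent.SignalizersComponents.Components
open Cfsg.Agent.H26.Lay

universe u v

section Diag

variable {G : Type u} [Group G]

theorem pr_mul {α : MulAut G} {r : ℕ} {L : Subgroup G}
    (hd : ∀ i j, i < j → j < r → ∀ x ∈ L, ∀ y ∈ L, (α ^ i) x * (α ^ j) y = (α ^ j) y * (α ^ i) x)
    {x y : G} (hx : x ∈ L) (hy : y ∈ L) : ∀ n ≤ r, pr α (x * y) n = pr α x n * pr α y n := by
  intro n
  induction n with
  | zero => intro _; rw [pr_zero, pr_zero, pr_zero, one_mul]
  | succ n ih =>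
    intro hn
    have h1 : Commute (pr α y n) ((α ^ n) x) := by
      have h2 : pr α y n ∈ centralizer ({(α ^ n) x} : Set G) := by
        refine pr_mem fun i hi => ?_
        rw [mem_centralizer_singleton_iff]
        exact hd i n hi (by omega) y hy x hx
      exact mem_centralizer_singleton_iff.1 h2
    rw [pr_succ, pr_succ, pr_succ, ih (by omega), map_mul]
    calc pr α x n * pr α y n * ((α ^ n) x * (α ^ n) y)
        = pr α x n * (pr α y n * (α ^ n) x) * (α ^ n) y := by group
      _ = pr α x n * ((α ^ n) x * pr α y n) * (α ^ n) y := by rw [h1.eq]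
      _ = _ := by group

theorem apply_pr {α ψ : MulAut G} (h : ψ * α = α * ψ) (x : G) (n : ℕ) : ψ (pr α x n) = pr α (ψ x) n := by
  have h1 : ∀ n : ℕ, ψ * α ^ n = α ^ n * ψ := fun n => (Commute.pow_right (show Commute ψ α from h) n).eq
  induction n with
  | zero => rw [pr_zero, pr_zero, map_one]
  | succ n ih =>
    rw [pr_succ, pr_succ, map_mul, ih, ← MulAut.mul_apply, h1, MulAut.mul_apply]

end Diag

section Main

variable {G : Type u} [Group G] [Finite G]

/-- The diagonal of a moved component is a component of the fixed points. -/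
theorem diag_component {r : ℕ} (hr : r.Prime) {α : MulAut G} (hα : α ^ r = 1) {L : Subgroup G}
    (hL : IsComponent L) (hne : tw α L ≠ L) :
    ∃ D : Subgroup G, D ≤ fx α ∧ IsComponent (D.subgroupOf (fx α)) ∧ ∀ x ∈ L, dg α r x ∈ D := by
  have hd := tw_le_centralizer hr hα hL hne
  have hcomm : ∀ i j, i < j → j < r → ∀ x ∈ L, ∀ y ∈ L, (α ^ i) x * (α ^ j) y = (α ^ j) y * (α ^ i) x := by
    intro i j hij hj x hx y hy
    have h1 : tw (α ^ i) L ≠ tw (α ^ j) L := fun h => by
      have := tw_ne hr hα hne (by omega) hj h
      omega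
    have h2 := component_le_centralizer_of_ne (tw_component (α ^ i) hL) (tw_component (α ^ j) hL) h1
    exact (mem_centralizer_iff.1 (h2 (apply_mem_tw hx)) _ (apply_mem_tw hy)).symm
  let δ : L →* G :=
    { toFun := fun x => dg α r x
      map_one' := by
        have h1 := pr_mul hcomm L.one_mem L.one_mem r le_rfl
        rw [mul_one] at h1
        exact (mul_eq_left.1 h1.symm)
      map_mul' := fun x y => pr_mul hcomm x.2 y.2 r le_rfl }
  have hδ : ∀ x : L, δ x = dg α r x := fun x => rfl
  have hfix : ∀ x ∈ L, dg α r x ∈ fx α := fun x hx => dg_fixed hr.pos hα hd hx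
  have hlay : ∀ x ∈ L, dg α r x ∈ layer G := by
    intro x hx
    refine dg_mem fun i _ => ?_
    exact component_le_layer (tw_component (α ^ i) hL) (apply_mem_tw hx)
  have hDle : δ.range ≤ fx α := by
    rintro _ ⟨x, rfl⟩
    exact hfix x x.2
  have hnt : Nontrivial δ.range := by
    by_contra hn
    rw [not_nontrivial_iff_subsingleton] at hn
    apply quasisimple_not_isMulCommutative hL.2
    refine ⟨⟨fun a b => Subtype.ext ?_⟩⟩
    obtain ⟨c, hc, hdc, -⟩ := dg_eq hr.pos hd a.2
    have h1 : dg α r a = 1 := by
      have := hn.elim ⟨δ a, a, rfl⟩ ⟨1, one_mem _⟩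
      exact congrArg Subtype.val this
    rw [h1] at hdc
    have h2 : (a : G) = c⁻¹ := eq_inv_of_mul_eq_one_left hdc.symm
    have h3 : (a : G) ∈ centralizer (L : Set G) := by rw [h2]; exact inv_mem hc
    exact (mem_centralizer_iff.1 h3 b b.2).symm
  have hqs : IsQuasisimple δ.range :=
    Cfsg.Agent.SignalizersComponents.QuasisimpleQuotient.isQuasisimple_of_surjective δ.rangeRestrict
      δ.rangeRestrict_surjective hL.2
  refine ⟨δ.range, hDle, ⟨?_, ?_⟩, fun x hx => ⟨⟨x, hx⟩, rfl⟩⟩
  · -- subnormal
    have hlayN : (layer G).Normal := layer_normal G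
    have h1 : ((layer G).subgroupOf (fx α)).Normal := inferInstance
    have h2 : ((layer G).subgroupOf (fx α)).IsSubnormal := Normal.isSubnormal h1
    refine IsSubnormal.step _ _ ?_ h2 ?_
    · intro x hx
      rw [mem_subgroupOf] at hx ⊢
      obtain ⟨y, hy⟩ := hx
      rw [← hy]
      exact hlay y y.2
    · refine normal_subgroupOf_of_le_normalizer ?_
      intro z hz
      refine mem_normalizer_of fun a ha => ?_
      rw [mem_subgroupOf] at ha hz ⊢
      obtain ⟨y, hy⟩ := ha
      have hzL : (z : G) ∈ normalizer (L : Set G) := layer_le_normalizer_component hL hz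
      have hzy : (z : G) * y * (z : G)⁻¹ ∈ L := (mem_normalizer_iff.1 hzL y).1 y.2
      refine ⟨⟨_, hzy⟩, ?_⟩
      have h3 : MulAut.conj (z : G) * α = α * MulAut.conj (z : G) := by
        have := conj_apply_mul α (z : G)
        rwa [show α (z : G) = z from z.2] at this
      rw [hδ]
      change dg α r (MulAut.conj (z : G) (y : G)) = _
      rw [dg, ← apply_pr h3]
      change MulAut.conj (z : G) (dg α r (y : G)) = _
      rw [← hδ, hy]
      rfl
  · exact isQuasisimple_of_mulEquiv (subgroupOfEquivOfLe hDle).symm hqs

/-- An automorphism acting trivially modulo the centre of a perfect group is trivial. -/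
theorem fixed_of_mod_center {L : Subgroup G} (hL : Group.IsPerfect L) (ψ : MulAut G)
    (h : ∀ x ∈ L, x⁻¹ * ψ x ∈ centralizer (L : Set G)) (hin : ∀ x ∈ L, ψ x ∈ L) : ∀ x ∈ L, ψ x = x := by
  have h1 : ⁅L, L⁆ ≤ fx ψ := by
    rw [commutator_le]
    intro a ha b hb
    rw [mem_fx, map_commutatorElement]
    have hz : ∀ x ∈ L, ∃ z ∈ centralizer (L : Set G), ψ x = x * z := fun x hx => ⟨_, h x hx, by group⟩
    obtain ⟨y, hy, hya⟩ := hz a ha
    obtain ⟨z, hzc, hzb⟩ := hz b hb
    have hy1 := mem_centralizer_iff.1 hy a ha
    have hy2 := mem_centralizer_iff.1 hy b hb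
    have hz1 := mem_centralizer_iff.1 hzc a ha
    have hz2 := mem_centralizer_iff.1 hzc b hb
    have hyL : y ∈ L := by
      have : y = a⁻¹ * ψ a := by rw [hya]; group
      rw [this]; exact L.mul_mem (L.inv_mem ha) (hin a ha)
    have hyz := mem_centralizer_iff.1 hzc y hyL
    rw [hya, hzb, commutatorElement_def, commutatorElement_def, mul_inv_rev, mul_inv_rev]
    calc a * y * (b * z) * (y⁻¹ * a⁻¹) * (z⁻¹ * b⁻¹)
        = a * (y * b) * z * y⁻¹ * a⁻¹ * z⁻¹ * b⁻¹ := by group
      _ = a * (b * y) * z * y⁻¹ * a⁻¹ * z⁻¹ * b⁻¹ := by rw [hy2]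
      _ = a * b * (y * z) * y⁻¹ * a⁻¹ * z⁻¹ * b⁻¹ := by group
      _ = a * b * (z * y) * y⁻¹ * a⁻¹ * z⁻¹ * b⁻¹ := by rw [hyz]
      _ = a * b * z * a⁻¹ * z⁻¹ * b⁻¹ := by group
      _ = a * b * (z * a⁻¹) * z⁻¹ * b⁻¹ := by group
      _ = a * b * (a⁻¹ * z) * z⁻¹ * b⁻¹ := by
          rw [mem_centralizer_iff.1 hzc _ (L.inv_mem ha)]
      _ = a * b * a⁻¹ * b⁻¹ := by group
  have h2 : ⁅L, L⁆ = L := Subgroup.commutator_eq_self (H := L)
  rw [h2] at h1
  exact fun x hx => h1 hx

theorem subgroupOf_component {L H : Subgroup G} (hL : IsComponent L) (h : L ≤ H) :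
    IsComponent (L.subgroupOf H) := isComponent_subgroupOf h hL

variable {A : Type v} [CommGroup A] [Finite A]

/-- **Components and noncyclic abelian coprime groups of automorphisms.** -/
theorem comp_fixed {r : ℕ} (hr : r.Prime) (hA : IsPGroup r A) (hnc : ¬ IsCyclic A) (hcop : (Nat.card G).Coprime r)
    (φ : A →* MulAut G) (hk : ∀ L : Subgroup G, IsComponent L → H254.CopCyc (L ⧸ center L))
    (hloc : ∀ a : A, a ≠ 1 → ∀ L : Subgroup G, L ≤ fx (φ a) → IsComponent (L.subgroupOf (fx (φ a))) →
      ∀ b : A, ∀ x ∈ L, φ b x = x) :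
    ∀ L : Subgroup G, IsComponent L → ∀ b : A, ∀ x ∈ L, φ b x = x := by
  intro L hL
  have hrf : Fact r.Prime := ⟨hr⟩
  have hLp : Group.IsPerfect L := hL.2.1
  -- every element of order `r` normalises `L`
  by_cases hmove : ∃ a : A, a ^ r = 1 ∧ tw (φ a) L ≠ L
  · exfalso
    obtain ⟨a, har, hne⟩ := hmove
    have ha1 : a ≠ 1 := by
      rintro rfl
      apply hne
      rw [map_one, tw_one]
    have hα : φ a ^ r = 1 := by rw [← map_pow, har, map_one]
    obtain ⟨D, hDle, hDc, hDx⟩ := diag_component hr hα hL hne
    have hfix : ∀ b : A, ∀ x ∈ L, φ b (dg (φ a) r x) = dg (φ a) r x :=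
      fun b x hx => hloc a ha1 D hDle hDc b _ (hDx x hx)
    have hd := tw_le_centralizer hr hα hL hne
    have hcomm : ∀ b : A, φ b * φ a = φ a * φ b := fun b => by rw [← map_mul, ← map_mul, mul_comm]
    -- the orbit of `L`
    have horb : ∀ b : A, ∃ i < r, tw (φ b) L = tw (φ a ^ i) L := by
      intro b
      by_contra hcon
      push Not at hcon
      apply not_le_centralizer_self hL.2
      intro x hx
      rw [mem_centralizer_iff]
      intro l hl
      -- `l` commutes with `dg (φ b x)`
      have h1 : dg (φ a) r (φ b x) ∈ centralizer ({l} : Set G) := by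
        refine dg_mem fun i hi => ?_
        rw [mem_centralizer_singleton_iff]
        have h2 : tw (φ a ^ i * φ b) L ≠ L := by
          intro h
          have h3 : tw (φ b) L = tw (φ a ^ ((r - i) % r)) L := by
            have h4 : tw (φ a ^ ((r - i) % r)) (tw (φ a ^ i * φ b) L) = tw (φ b) L := by
              rw [← tw_mul, ← mul_assoc, ← pow_add]
              have : φ a ^ ((r - i) % r + i) = 1 := by
                rcases Nat.eq_zero_or_pos i with rfl | hi0
                · rw [Nat.sub_zero, Nat.mod_self, zero_add, pow_zero]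
                · rw [Nat.mod_eq_of_lt (by omega), Nat.sub_add_cancel hi.le, hα]
              rw [this, one_mul]
            rw [h] at h4
            exact h4.symm
          exact hcon _ (Nat.mod_lt _ hr.pos) h3
        have h3 := component_le_centralizer_of_ne (tw_component (φ a ^ i * φ b) hL) hL h2
        have h4 : (φ a ^ i) (φ b x) ∈ centralizer (L : Set G) := h3 (apply_mem_tw (φ := φ a ^ i * φ b) hx)
        exact (mem_centralizer_iff.1 h4 l hl).symm
      have h2 : dg (φ a) r (φ b x) = dg (φ a) r x := by
        have := hfix b x hx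
        rw [dg, apply_pr (hcomm b)] at this
        exact this
      rw [h2, mem_centralizer_singleton_iff] at h1
      obtain ⟨c, hc, hdc, -⟩ := dg_eq hr.pos hd hx
      rw [hdc] at h1
      have h3 := mem_centralizer_iff.1 hc l hl
      -- `x c l = l x c`, `l c = c l`
      have h4 : x * l * c = l * x * c := by
        calc x * l * c = x * (l * c) := by group
          _ = x * (c * l) := by rw [h3]
          _ = x * c * l := by group
          _ = l * (x * c) := h1
          _ = _ := by group
      exact (mul_right_cancel h4).symm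
    -- stabilising elements centralise `L`
    have hstab : ∀ b : A, tw (φ b) L = L → ∀ x ∈ L, φ b x = x := by
      intro b hb
      have hbL : ∀ x ∈ L, φ b x ∈ L := fun x hx => by
        have := apply_mem_tw (φ := φ b) hx
        rwa [hb] at this
      refine fixed_of_mod_center hLp (φ b) ?_ hbL
      intro x hx
      obtain ⟨c, hc, hdc, -⟩ := dg_eq hr.pos hd hx
      have h1 := hfix b x hx
      rw [hdc, map_mul] at h1
      have hcb : φ b c ∈ centralizer (L : Set G) := by
        rw [mem_centralizer_iff]
        intro l hl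
        have h2 : (φ b)⁻¹ l ∈ L := by
          rw [← mem_tw, hb]; exact hl
        have h3 := mem_centralizer_iff.1 hc _ h2
        have h4 := congrArg (φ b) h3
        rw [map_mul, map_mul, MulAut.apply_inv_self] at h4
        exact h4
      have h5 : x⁻¹ * φ b x = c * (φ b c)⁻¹ := by
        rw [inv_mul_eq_iff_eq_mul, ← mul_assoc, ← h1, mul_inv_cancel_right]
      rw [h5]
      exact mul_mem hc (inv_mem hcb)
    apply hnc
    refine ⟨a, fun b => ?_⟩
    obtain ⟨i, hi, hbi⟩ := horb b
    have h1 : tw (φ ((a ^ i)⁻¹ * b)) L = L := by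
      rw [map_mul, tw_mul, hbi, map_inv, map_pow, ← tw_mul, inv_mul_cancel, tw_one]
    have h2 := hstab _ h1
    by_cases hb1 : (a ^ i)⁻¹ * b = 1
    · rw [inv_mul_eq_one] at hb1
      exact ⟨i, by rw [← hb1]; exact zpow_natCast a i⟩
    · exfalso
      apply hne
      have hle : L ≤ fx (φ ((a ^ i)⁻¹ * b)) := fun x hx => h2 x hx
      have h3 := hloc _ hb1 L hle (subgroupOf_component hL hle) a
      ext x
      rw [mem_tw]
      constructor
      · intro hx
        have h4 := h3 _ hx
        rw [MulAut.apply_inv_self] at h4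
        rw [h4]; exact hx
      · intro hx
        have h4 : (φ a)⁻¹ x = x := by
          conv_lhs => rw [← h3 x hx]
          exact MulAut.inv_apply_self _ _ _
        rw [h4]; exact hx
  · push Not at hmove
    -- the action on `L / Z(L)`
    have hex : ∃ a : A, a ≠ 1 ∧ ∀ x ∈ L, φ a x = x := by
      by_contra hcon
      push Not at hcon
      -- `Ω = {a | a ^ r = 1}`
      let Ω : Subgroup A :=
        { carrier := {a | a ^ r = 1}
          one_mem' := one_pow r
          mul_mem' := fun {a b} ha hb => by
            change (a * b) ^ r = 1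
            rw [mul_pow, show a ^ r = 1 from ha, show b ^ r = 1 from hb, one_mul]
          inv_mem' := fun {a} ha => by
            change a⁻¹ ^ r = 1
            rw [inv_pow, show a ^ r = 1 from ha, inv_one] }
      have hΩ : ∀ a : Ω, tw (φ a) L = L := fun a => hmove a a.2
      have hin : ∀ a : Ω, ∀ x ∈ L, φ a x ∈ L := fun a x hx => by
        have := apply_mem_tw (φ := φ a) hx
        rwa [hΩ a] at this
      let ρ : Ω →* MulAut L :=
        { toFun := fun a =>
            { toFun := fun x => ⟨φ a x, hin a x x.2⟩
              invFun := fun x => ⟨φ (a⁻¹ : Ω) x, hin a⁻¹ x x.2⟩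
              left_inv := fun x => by
                apply Subtype.ext
                change φ ((a⁻¹ : Ω) : A) (φ a x) = x
                rw [← MulAut.mul_apply, ← map_mul]
                simp
              right_inv := fun x => by
                apply Subtype.ext
                change φ a (φ ((a⁻¹ : Ω) : A) x) = x
                rw [← MulAut.mul_apply, ← map_mul]
                simp
              map_mul' := fun x y => Subtype.ext (map_mul (φ a) (x : G) y) }
          map_one' := by
            ext x
            change φ ((1 : Ω) : A) x = x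
            simp
          map_mul' := fun a b => by
            ext x
            change φ ((a * b : Ω) : A) x = φ a (φ b x)
            simp }
      have hρ : ∀ (a : Ω) (x : L), ((ρ a x : L) : G) = φ a x := fun a x => rfl
      let q : MulAut L →* MulAut (L ⧸ center L) :=
        { toFun := fun ψ => QuotientGroup.congr (center L) (center L) ψ
            (characteristic_iff_map_eq.1 inferInstance ψ)
          map_one' := by
            ext x
            induction x using QuotientGroup.induction_on with
            | H x => rfl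
          map_mul' := fun ψ χ => by
            ext x
            induction x using QuotientGroup.induction_on with
            | H x => rfl }
      have hq : ∀ (ψ : MulAut L) (x : L), q ψ (x : L ⧸ center L) = (ψ x : L ⧸ center L) := fun ψ x => rfl
      let τ : Ω →* MulAut (L ⧸ center L) := q.comp ρ
      have hτ : Function.Injective τ := by
        rw [injective_iff_map_eq_one]
        intro a ha
        by_contra ha1
        have ha1' : (a : A) ≠ 1 := fun h => ha1 (Subtype.ext h)
        obtain ⟨x, hx, hxa⟩ := hcon a ha1'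
        apply hxa
        refine fixed_of_mod_center hLp (φ a) ?_ (hin a) x hx
        intro y hy
        have h1 : q (ρ a) ((⟨y, hy⟩ : L) : L ⧸ center L) = ((⟨y, hy⟩ : L) : L ⧸ center L) := by
          change τ a _ = _
          rw [ha]; rfl
        rw [hq] at h1
        have h2 := QuotientGroup.eq.1 h1.symm
        rw [mem_center_iff] at h2
        rw [mem_centralizer_iff]
        intro l hl
        exact congrArg Subtype.val (h2 ⟨l, hl⟩)
      have hΩp : IsPGroup r Ω := hA.to_subgroup Ω
      have hrange : IsCyclic τ.range := by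
        refine hk L hL τ.range ?_
        have h1 : IsPGroup r τ.range := hΩp.of_surjective τ.rangeRestrict τ.rangeRestrict_surjective
        obtain ⟨n, hn⟩ := IsPGroup.iff_card.1 h1
        rw [hn]
        refine Nat.Coprime.pow_left n ?_
        have h2 : Nat.card (L ⧸ center L) ∣ Nat.card G :=
          (card_quotient_dvd_card (center L)).trans L.card_subgroup_dvd_card
        exact (hcop.coprime_dvd_left h2).symm
      have hΩc : IsCyclic Ω :=
        isCyclic_of_injective τ.rangeRestrict (fun x y h => hτ (congrArg Subtype.val h))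
      apply hnc
      refine H104.TwoLines.isCyclic_of_comm hA ?_
      intro x y hx hy hx1
      obtain ⟨g, hg⟩ := hΩc.exists_generator
      have hgr : (g : A) ^ r = 1 := g.2
      -- `x` generates `Ω`
      obtain ⟨i, hi⟩ := hg ⟨x, hx⟩
      obtain ⟨j, hj⟩ := hg ⟨y, hy⟩
      have hi' : (g : A) ^ i = x := congrArg Subtype.val hi
      have hj' : (g : A) ^ j = y := congrArg Subtype.val hj
      have hnd : ¬ (r : ℤ) ∣ i := by
        rintro ⟨k, rfl⟩
        apply hx1
        rw [← hi', zpow_mul, zpow_natCast, hgr, one_zpow]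
      have hco : IsCoprime (r : ℤ) i := (Nat.prime_iff_prime_int.1 hr).coprime_iff_not_dvd.2 hnd
      obtain ⟨u, v, huv⟩ := hco
      refine ⟨v * j, ?_⟩
      change x ^ (v * j) = y
      rw [← hi', ← hj', ← zpow_mul]
      have h1 : i * (v * j) = j - r * (u * j) := by
        have : u * r * j + v * i * j = j := by rw [← add_mul, huv, one_mul]
        linarith
      rw [h1, zpow_sub, zpow_mul (g : A) (r : ℤ), zpow_natCast, hgr, one_zpow, inv_one, mul_one]
    obtain ⟨a, ha1, ha⟩ := hex
    have hle : L ≤ fx (φ a) := fun x hx => ha x hx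
    exact hloc a ha1 L hle (subgroupOf_component hL hle)

end Main

end Cfsg.Agent.H25.LayFix
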