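import Mathlib
import Cfsg.Agent.H25.LayFix
import Cfsg.Agent.S0058
import Cfsg.Agent.TwoFusion.FStarControl
import Cfsg.Agent.SignalizersComponents.LayerBasic

/-!
# Reduction of S1931 to the cyclicity of coprime automorphism groups of simple groups

`res H p` : the subgroup `O^p(F*(H))` of the ambient group.
-/

set_option autoImplicit false

namespace Cfsg.Agent.H25.LayRes

open Subgroup Cfsg
open Cfsg.Agent.SignalizersComponents.Components

variable {X : Type*} [Group X] [Finite X]

/-- `O^p(F*(H))` as a subgroup of the ambient group. -/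
def res (p : ℕ) (H : Subgroup X) : Subgroup X :=
  ((pResidual p ↥(generalizedFittingSubgroup ↥H)).map (generalizedFittingSubgroup ↥H).subtype).map H.subtype

omit [Finite X] in
theorem mem_res_of {p : ℕ} {H N : Subgroup X} (hNH : N ≤ H)
    (hN : (N.subgroupOf H) ≤ generalizedFittingSubgroup ↥H) {x : X} (hx : x ∈ N) (ho : (orderOf x).Coprime p) :
    x ∈ res p H := by
  let y : H := ⟨x, hNH hx⟩
  have hy : y ∈ generalizedFittingSubgroup ↥H := hN (mem_subgroupOf.2 hx)
  refine ⟨y, ⟨⟨y, hy⟩, subset_closure ?_, rfl⟩, rfl⟩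
  change (orderOf (⟨y, hy⟩ : generalizedFittingSubgroup ↥H)).Coprime p
  rw [← Subgroup.orderOf_coe, ← Subgroup.orderOf_coe]
  exact ho

omit [Finite X] in
/-- a perfect finite group is generated by its `p'`-elements -/
theorem pResidual_eq_top {L : Type*} [Group L] [Finite L] (hL : Group.IsPerfect L) (p : ℕ) [hp : Fact p.Prime] :
    Subgroup.closure {g : L | Nat.Coprime (orderOf g) p} = ⊤ := by
  set N := Subgroup.closure {g : L | Nat.Coprime (orderOf g) p} with hNdef
  have hN : N.Normal := by
    constructor
    intro n hn g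
    have h1 : N ≤ N.comap (MulAut.conj g).toMonoidHom := by
      rw [hNdef, closure_le]
      intro y hy
      change g * y * g⁻¹ ∈ N
      apply Subgroup.subset_closure
      change Nat.Coprime (orderOf (g * y * g⁻¹)) p
      have : orderOf (g * y * g⁻¹) = orderOf y := (MulAut.conj g).orderOf_eq y
      rw [this]; exact hy
    exact h1 hn
  have h1 : IsPGroup p (L ⧸ N) := by
    intro y
    induction y using QuotientGroup.induction_on with
    | H x =>
      obtain ⟨m, hm⟩ : ∃ m, orderOf (x ^ p ^ m) = (orderOf x) / p ^ m ∧ Nat.Coprime (orderOf (x ^ p ^ m)) p := by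
        have hpos : 0 < orderOf x := orderOf_pos x
        obtain ⟨m, k, hk, hm⟩ := Nat.exists_eq_pow_mul_and_not_dvd (n := orderOf x) hpos.ne' p hp.out.ne_one
        refine ⟨m, ?_⟩
        have h2 : orderOf (x ^ p ^ m) = orderOf x / p ^ m := by
          rw [orderOf_pow, Nat.gcd_eq_right (by rw [hm]; exact dvd_mul_right _ _)]
        refine ⟨h2, ?_⟩
        rw [h2, hm, Nat.mul_div_cancel_left _ (pow_pos hp.out.pos _)]
        exact ((Nat.Prime.coprime_iff_not_dvd hp.out).2 hk).symm
      refine ⟨m, ?_⟩
      rw [← QuotientGroup.mk_pow, QuotientGroup.eq_one_iff]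
      exact subset_closure hm.2
  have h2 : Group.IsPerfect (L ⧸ N) := Group.IsPerfect.ofSurjective (QuotientGroup.mk'_surjective N)
  by_contra hne
  have hnt : Nontrivial (L ⧸ N) := QuotientGroup.nontrivial_iff.2 hne
  have h3 : Group.IsNilpotent (L ⧸ N) := h1.isNilpotent
  have h4 : Group.IsSolvable (L ⧸ N) := inferInstance
  exact Group.IsPerfect.not_isSolvable (L ⧸ N) h4

omit [Finite X] in
theorem mul_subset_layer {H : Subgroup X} : layer ↥H ≤ generalizedFittingSubgroup ↥H := le_sup_left

theorem component_le_res {p : ℕ} [hp : Fact p.Prime] {H L : Subgroup X} (hLH : L ≤ H)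
    (hL : IsComponent (L.subgroupOf H)) : L ≤ res p H := by
  have h1 : Group.IsPerfect L := (isQuasisimple_of_mulEquiv (subgroupOfEquivOfLe hLH) hL.2).1
  have h2 := pResidual_eq_top h1 p
  have h3 : (L.subgroupOf H) ≤ generalizedFittingSubgroup ↥H := (component_le_layer hL).trans le_sup_left
  have h4 : Subgroup.closure {g : L | Nat.Coprime (orderOf g) p} ≤ (res p H).comap L.subtype := by
    rw [closure_le]
    intro y hy
    change (y : X) ∈ res p H
    refine mem_res_of hLH h3 y.2 ?_
    rw [Subgroup.orderOf_coe]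
    exact hy
  rw [h2] at h4
  intro x hx
  exact h4 (x := ⟨x, hx⟩) trivial

theorem fit_le_res {p : ℕ} [hp : Fact p.Prime] {H N : Subgroup X} (hNH : N ≤ H) (hN : (N.subgroupOf H).Normal)
    (hNn : Group.IsNilpotent N) (hNp : (Nat.card N).Coprime p) : N ≤ res p H := by
  have h1 : Group.IsNilpotent (N.subgroupOf H) := by
    have e := subgroupOfEquivOfLe hNH
    exact (Group.isNilpotent_congr e).2 hNn
  have h3 : (N.subgroupOf H) ≤ generalizedFittingSubgroup ↥H :=
    (le_sSup (show (N.subgroupOf H) ∈ {N : Subgroup ↥H | N.Normal ∧ Group.IsNilpotent N} from ⟨hN, h1⟩)).trans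
      le_sup_right
  intro x hx
  refine mem_res_of hNH h3 hx ?_
  have h4 : orderOf x ∣ Nat.card N := by
    have := orderOf_dvd_natCard (⟨x, hx⟩ : N)
    rwa [← Subgroup.orderOf_coe] at this
  exact hNp.coprime_dvd_left h4

theorem fitp_normal (G : Type*) [Group G] (p : ℕ) : (fittingSubgroup G ⊓ pPrimeCore p G).Normal :=
  have := Cfsg.Agent.SignalizersComponents.ComponentExists.fittingSubgroup_normal G
  have := Cfsg.Agent.Lib.Cores.pPrimeCore_normal (G := G) p
  inferInstance

/-- `O^p(F*(G))` lies in every subgroup containing the components and `O_{p'}(F(G))`. -/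
theorem res_le {p : ℕ} [hp : Fact p.Prime] {G M : Subgroup X}
    (h1 : ∀ L : Subgroup ↥G, IsComponent L → L.map G.subtype ≤ M)
    (h2 : (fittingSubgroup ↥G ⊓ pPrimeCore p ↥G).map G.subtype ≤ M) : res p G ≤ M := by
  have hFn := fitp_normal ↥G p
  have hLn := layer_normal ↥G
  have hPn := Cfsg.Agent.Lib.Cores.pCore_normal (G := ↥G) p
  set M' : Subgroup ↥G := layer ↥G ⊔ (fittingSubgroup ↥G ⊓ pPrimeCore p ↥G) with hM'
  have hM'n : M'.Normal := inferInstance
  have hMle : M'.map G.subtype ≤ M := by
    rw [hM', Subgroup.map_sup]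
    refine sup_le ?_ h2
    rw [map_le_iff_le_comap, layer_le_iff]
    intro K hK
    rw [← map_le_iff_le_comap]
    exact h1 K hK
  refine le_trans ?_ hMle
  refine map_mono ?_
  rw [map_le_iff_le_comap, pResidual, closure_le]
  intro x hx
  change (x : G) ∈ M'
  have hx1 : (orderOf (x : G)).Coprime p := by rw [Subgroup.orderOf_coe]; exact hx
  have hx2 : (x : G) ∈ pCore p ↥G ⊔ M' := by
    have h3 : generalizedFittingSubgroup ↥G ≤ pCore p ↥G ⊔ M' := by
      refine sup_le (le_sup_left.trans le_sup_right) ?_
      refine (TwoFusion.FStarControl.fitting_le_sup p).trans ?_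
      exact sup_le_sup_left le_sup_right _
    exact h3 x.2
  -- modulo `M'`
  have h4 : QuotientGroup.mk' M' (x : G) ∈ (pCore p ↥G).map (QuotientGroup.mk' M') := by
    have h5 : QuotientGroup.mk' M' (x : G) ∈ (pCore p ↥G ⊔ M').map (QuotientGroup.mk' M') := ⟨_, hx2, rfl⟩
    rwa [Subgroup.map_sup, QuotientGroup.map_mk'_self, sup_bot_eq] at h5
  have h5 : IsPGroup p ((pCore p ↥G).map (QuotientGroup.mk' M')) :=
    (Cfsg.Agent.Lib.Cores.pCore_isPGroup (G := ↥G) p).map _
  obtain ⟨k, hk⟩ := h5 ⟨_, h4⟩
  have h6 : (QuotientGroup.mk' M' (x : G)) ^ p ^ k = 1 := congrArg Subtype.val hk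
  have h7 : orderOf (QuotientGroup.mk' M' (x : G)) = 1 := by
    have h8 : orderOf (QuotientGroup.mk' M' (x : G)) ∣ p ^ k := orderOf_dvd_of_pow_eq_one h6
    have h9 : orderOf (QuotientGroup.mk' M' (x : G)) ∣ orderOf (x : G) := orderOf_map_dvd _ _
    exact Nat.eq_one_of_dvd_coprimes (Nat.Coprime.pow_right k hx1) h9 h8
  rw [orderOf_eq_one_iff] at h7
  exact (QuotientGroup.eq_one_iff _).1 h7

theorem nil_of_le {G : Type*} [Group G] {N M : Subgroup G} (h : N ≤ M) (hM : Group.IsNilpotent M) :
    Group.IsNilpotent N :=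
  (Group.isNilpotent_congr (subgroupOfEquivOfLe h)).1 inferInstance

/-- conjugation action of `R` on `G` -/
noncomputable def act {G R : Subgroup X} (hnorm : R ≤ normalizer (G : Set X)) : R →* MulAut G :=
  G.normalizerMonoidHom.comp (inclusion hnorm)

omit [Finite X] in
theorem act_apply {G R : Subgroup X} (hnorm : R ≤ normalizer (G : Set X)) (a : R) (g : G) :
    ((act hnorm a g : G) : X) = a * g * (a : X)⁻¹ := rfl

/-- **Statement 1931, modulo cyclicity of coprime automorphism groups.** -/
theorem main (G R : Subgroup X) (r : ℕ) [hrf : Fact r.Prime] (hR : IsPGroup r ↥R)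
    (hcop : (Nat.card ↥G).Coprime r) (hnorm : R ≤ Subgroup.normalizer (G : Set X)) (hab : IsMulCommutative ↥R)
    (hnc : ¬ IsCyclic ↥R) (p : ℕ) [hpf : Fact p.Prime]
    (hk : ∀ L : Subgroup ↥G, IsComponent L → H254.CopCyc (L ⧸ center L))
    (hloc : ∀ a ∈ R, a ≠ 1 → R ≤ Subgroup.centralizer ((res p (G ⊓ Subgroup.centralizer ({a} : Set X)) : Subgroup X) : Set X)) :
    R ≤ Subgroup.centralizer ((res p G : Subgroup X) : Set X) := by
  let _ : CommGroup R := { (inferInstance : Group R) with mul_comm := fun a b => hab.is_comm.comm a b }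
  have hres : res p G ≤ centralizer (R : Set X) := by
    refine res_le (fun L hL => ?_) ?_
    · -- components
      have hmain := LayFix.comp_fixed (G := ↥G) (A := ↥R) (r := r) hrf.out hR hnc hcop (act hnorm) hk ?_ L hL
      · rintro _ ⟨x, hx, rfl⟩
        rw [mem_centralizer_iff]
        intro b hb
        have h1 := congrArg (Subtype.val) (hmain ⟨b, hb⟩ x hx)
        rw [act_apply] at h1
        exact mul_inv_eq_iff_eq_mul.1 h1
      · intro a ha K hKle hK b x hx
        have ha1 : (a : X) ≠ 1 := fun h => ha (Subtype.ext h)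
        set H : Subgroup X := G ⊓ centralizer ({(a : X)} : Set X) with hH
        have hfx : ∀ g : G, g ∈ fx (act hnorm a) ↔ (g : X) ∈ centralizer ({(a : X)} : Set X) := by
          intro g
          rw [mem_fx, mem_centralizer_singleton_iff]
          constructor
          · intro h
            have h1 := congrArg (Subtype.val) h
            rw [act_apply] at h1
            exact (mul_inv_eq_iff_eq_mul.1 h1).symm
          · intro h
            apply Subtype.ext
            rw [act_apply, mul_inv_eq_iff_eq_mul]
            exact h.symm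
        -- the isomorphism `fx ≃ H`
        let e : fx (act hnorm a) ≃* H :=
          { toFun := fun g => ⟨(g : G), (g : G).2, (hfx g).1 g.2⟩
            invFun := fun g => ⟨⟨g, g.2.1⟩, (hfx _).2 g.2.2⟩
            left_inv := fun _ => rfl
            right_inv := fun _ => rfl
            map_mul' := fun _ _ => rfl }
        have h1 : IsComponent ((K.subgroupOf (fx (act hnorm a))).map e.toMonoidHom) := isComponent_map_equiv e hK
        have h2 : (K.subgroupOf (fx (act hnorm a))).map e.toMonoidHom = (K.map G.subtype).subgroupOf H := by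
          ext y
          rw [mem_subgroupOf]
          constructor
          · rintro ⟨z, hz, rfl⟩
            exact ⟨(z : G), hz, rfl⟩
          · rintro ⟨z, hz, hzy⟩
            refine ⟨⟨z, hKle hz⟩, hz, ?_⟩
            exact Subtype.ext hzy
        rw [h2] at h1
        have hKH : K.map G.subtype ≤ H := by
          rintro _ ⟨z, hz, rfl⟩
          exact ⟨z.2, (hfx z).1 (hKle hz)⟩
        have h3 := component_le_res (p := p) hKH h1
        have h4 := hloc a a.2 ha1 b.2
        rw [mem_centralizer_iff] at h4
        have h5 := h4 x (h3 ⟨x, hx, rfl⟩)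
        apply Subtype.ext
        rw [act_apply, mul_inv_eq_iff_eq_mul]
        exact h5.symm
    · -- the Fitting part
      have hFn := fitp_normal ↥G p
      set F : Subgroup ↥G := fittingSubgroup ↥G ⊓ pPrimeCore p ↥G with hF
      have hFch : F.Characteristic := by
        have h1 : (fittingSubgroup ↥G).Characteristic := Cfsg.Agent.Lib.Cores.fittingSubgroup_characteristic
        have h2 : (pPrimeCore p ↥G).Characteristic := Cfsg.Agent.Lib.Cores.pPrimeCore_characteristic p
        infer_instance
      set K : Subgroup X := F.map G.subtype with hK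
      have hKG : K ≤ G := map_subtype_le F
      have hKR : R ≤ normalizer (K : Set X) := by
        refine Cfsg.Agent.S0058.le_normalizer_of_conj_mem _ _ ?_
        rintro b hb _ ⟨x, hx, rfl⟩
        have h1 : act hnorm ⟨b, hb⟩ x ∈ F := by
          have h2 := characteristic_iff_map_eq.1 hFch (act hnorm ⟨b, hb⟩)
          rw [← h2]
          exact ⟨x, hx, rfl⟩
        exact ⟨_, h1, rfl⟩
      have hcardK : Nat.card K ∣ Nat.card G := card_dvd_of_le hKG
      have hcop2 : (Nat.card R).Coprime (Nat.card K) := by
        obtain ⟨n, hn⟩ := IsPGroup.iff_card.1 hR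
        rw [hn]
        exact Nat.Coprime.pow_left n (hcop.coprime_dvd_left hcardK).symm
      have h1 := Cfsg.Agent.S0058.result R K hnc hKR hcop2
      rw [← h1]
      refine iSup₂_le fun a ha => ?_
      obtain ⟨haR, ha1⟩ := ha
      have hKn : Group.IsNilpotent K := by
        have h2 : Group.IsNilpotent F := by
          have h3 := Cfsg.Agent.Lib.Cores.fittingSubgroup_isNilpotent (G := ↥G)
          exact nil_of_le (inf_le_left : F ≤ fittingSubgroup ↥G) h3
        exact (Group.isNilpotent_congr (F.equivMapOfInjective _ G.subtype_injective)).1 h2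
      have hKp : (Nat.card K).Coprime p := by
        have h2 : Nat.card K = Nat.card F := (Nat.card_congr (F.equivMapOfInjective _ G.subtype_injective).toEquiv).symm
        rw [h2]
        exact (Cfsg.Agent.Lib.Cores.pPrimeCore_coprime (G := ↥G) p).coprime_dvd_left (card_dvd_of_le inf_le_right)
      have h2 : K ⊓ centralizer {a} ≤ res p (G ⊓ centralizer ({a} : Set X)) := by
        have hle : K ⊓ centralizer {a} ≤ G ⊓ centralizer ({a} : Set X) := inf_le_inf_right _ hKG
        refine fit_le_res hle ?_ ?_ ?_
        · refine normal_subgroupOf_of_le_normalizer ?_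
          intro g hg
          rw [mem_normalizer_iff]
          have hgK : g ∈ normalizer (K : Set X) := by
            have : G ≤ normalizer (K : Set X) := by
              refine Cfsg.Agent.S0058.le_normalizer_of_conj_mem _ _ ?_
              rintro b hb _ ⟨x, hx, rfl⟩
              exact ⟨⟨b, hb⟩ * x * ⟨b, hb⟩⁻¹, hFn.conj_mem x hx ⟨b, hb⟩, rfl⟩
            exact this hg.1
          intro x
          constructor
          · rintro ⟨h3, h4⟩
            exact ⟨(mem_normalizer_iff.1 hgK x).1 h3, (centralizer ({a} : Set X)).mul_mem ((centralizer ({a} : Set X)).mul_mem hg.2 h4) ((centralizer ({a} : Set X)).inv_mem hg.2)⟩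
          · rintro ⟨h3, h4⟩
            refine ⟨(mem_normalizer_iff.1 hgK x).2 h3, ?_⟩
            have h5 : x = g⁻¹ * (g * x * g⁻¹) * g := by group
            rw [h5]
            exact (centralizer ({a} : Set X)).mul_mem ((centralizer ({a} : Set X)).mul_mem ((centralizer ({a} : Set X)).inv_mem hg.2) h4) hg.2
        · exact nil_of_le inf_le_left hKn
        · exact hKp.coprime_dvd_left (card_dvd_of_le inf_le_left)
      have h3 := hloc a haR ha1
      rw [le_centralizer_iff] at h3
      exact h2.trans h3
  rw [le_centralizer_iff]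
  exact hres

end Cfsg.Agent.H25.LayRes
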