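import Cfsg.Agent.H25.S30Lin
import Cfsg.Agent.PLocal.ChiefReduction
import Cfsg.Prelude.Def_LocalEven

/-!
# A quadratic element on a chief factor gives a linear simple factor

* `Pack p r` : the conclusion of `exists_qd`;
* `exists_module` : an elementary abelian group as a module in `Type`;
* `chief_case` : `g` in all `R`-invariant Sylow `p`-subgroups of `H`, quadratic and nontrivial on a chief factor of `HR`.
-/

set_option autoImplicit false

namespace Cfsg.Agent.H25.S30

open Subgroup Cfsg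
open scoped commutatorElement

/-- a quadratic element in a simple factor, lying in all `B`-invariant Sylow `p`-subgroups -/
def Pack (p r : ℕ) [Fact p.Prime] : Prop :=
  ∃ (M : Type) (_ : AddCommGroup M) (_ : Module (ZMod p) M) (L : Type) (_ : Group L) (K : Type) (_ : Group K)
      (ρ' : L →* Module.End (ZMod p) M) (π : L →* K) (l : L), Finite M ∧ Finite L ∧ Finite K ∧ IsSimpleGroup K ∧
        (∃ a b : K, a * b ≠ b * a) ∧ QD ρ' π l ∧ π l ≠ 1 ∧ ¬ r ∣ Nat.card K ∧
        ∃ B : Subgroup (MulAut K), IsPGroup r B ∧ ∀ Q : Sylow p K, (∀ β ∈ B, ∀ k ∈ Q, β k ∈ Q) → π l ∈ Q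

theorem exists_module {p : ℕ} [Fact p.Prime] {A : Type*} [CommGroup A] [Finite A] (hexp : ∀ a : A, a ^ p = 1)
    {E : Type*} [Group E] (φ : E →* MulAut A) :
    ∃ (V : Type) (_ : AddCommGroup V) (_ : Module (ZMod p) V) (_ : Finite V) (e : Additive A ≃+ V)
      (ρ : E →* Module.End (ZMod p) V), ∀ (x : E) (a : A), ρ x (e (Additive.ofMul a)) = e (Additive.ofMul (φ x a)) := by
  classical
  have : Module (ZMod p) (Additive A) := AddCommGroup.zmodModule (n := p) (fun x => by
    exact hexp x.toMul)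
  have hfin : Module.Finite (ZMod p) (Additive A) := Module.Finite.of_finite
  let act : E →* Module.End (ZMod p) (Additive A) :=
    { toFun := fun x => ((MonoidHom.toAdditive (φ x).toMonoidHom)).toZModLinearMap p
      map_one' := by
        refine LinearMap.ext fun v => ?_
        change Additive.ofMul (φ 1 v.toMul) = v
        rw [map_one]
        rfl
      map_mul' := fun x y => by
        refine LinearMap.ext fun (v : Additive A) => ?_
        change Additive.ofMul (φ (x * y) v.toMul) = Additive.ofMul (φ x (φ y v.toMul))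
        rw [map_mul]
        rfl }
  have hact : ∀ (x : E) (v : Additive A), act x v = Additive.ofMul (φ x v.toMul) := fun _ _ => rfl
  let b := Module.finBasis (ZMod p) (Additive A)
  let e := b.equivFun
  let ρ : E →* Module.End (ZMod p) (Fin (Module.finrank (ZMod p) (Additive A)) → ZMod p) :=
    (e.conjRingEquiv : Module.End (ZMod p) (Additive A) →* _).comp act
  refine ⟨Fin (Module.finrank (ZMod p) (Additive A)) → ZMod p, inferInstance, inferInstance, inferInstance,
    e.toAddEquiv, ρ, ?_⟩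
  intro x a
  change e (act x (e.symm (e (Additive.ofMul a)))) = e (Additive.ofMul (φ x a))
  rw [LinearEquiv.symm_apply_apply, hact]
  rfl

/-- a normal subgroup of the quotient from an invariant submodule -/
theorem chief_case {p : ℕ} [hp : Fact p.Prime] (hp3 : 3 < p) {Γ : Type*} [Group Γ] [Finite Γ] {r : ℕ} [Fact r.Prime]
    {R H : Subgroup Γ} (hR : IsPGroup r R) (hr : ¬ r ∣ Nat.card H) (hn : ∀ a ∈ R, ∀ t ∈ H, a * t * a⁻¹ ∈ H)
    (hHR : H ⊔ R = ⊤) {U W : Subgroup Γ} (h : IsChiefFactor U W) (hU : IsPGroup p U) {g : Γ}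
    (hg : InAll p R H g) (hq : ⁅⁅U, zpowers g⁆, zpowers g⁆ ≤ W) (hnt : ¬ ⁅U, zpowers g⁆ ≤ W) : Pack p r := by
  classical
  have hUn := h.2.1
  have hW := h.2.2.1
  set π := QuotientGroup.mk' W with hπ
  have hsurj : Function.Surjective π := QuotientGroup.mk'_surjective W
  set P := U.map π with hP
  have hPn : P.Normal := hUn.map π hsurj
  have hPp : IsPGroup p P := hU.map π
  have key : ∀ X : Subgroup Γ, X ≤ W ↔ X.map π = ⊥ := by
    intro X
    rw [Subgroup.map_eq_bot_iff, hπ, QuotientGroup.ker_mk']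
  have hz : (zpowers g).map π = zpowers (π g) := MonoidHom.map_zpowers π g
  have hmin : ∀ N : Subgroup (Γ ⧸ W), N.Normal → N ≤ P → N = ⊥ ∨ N = P := by
    intro N hN hNP
    have hNc : (N.comap π).Normal := hN.comap π
    have h3 : W ≤ N.comap π := by
      intro v hv
      rw [mem_comap]
      have : π v = 1 := (QuotientGroup.eq_one_iff v).2 hv
      rw [this]; exact one_mem N
    have h4 : N.comap π ≤ U := by
      have := comap_mono (f := π) hNP
      rw [hP, comap_map_eq, hπ, QuotientGroup.ker_mk', sup_eq_left.2 h.1.le] at this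
      exact this
    have h5 : (N.comap π).map π = N := map_comap_eq_self_of_surjective hsurj N
    rcases h.2.2.2 _ hNc h3 h4 with h6 | h6
    · left
      rw [← h5, h6]
      exact (key W).1 le_rfl
    · right
      rw [← h5, h6]
  obtain ⟨hab, hexp⟩ := PLocal.ChiefReduction.isElementaryAbelian_of_minimal hPn hPp hmin
  let _ : CommGroup P := { (inferInstance : Group P) with mul_comm := fun x y => mul_comm' x y }
  let φ : Γ →* MulAut P := (MulAut.conjNormal (H := P)).comp π
  have hφ : ∀ (x : Γ) (a : P), ((φ x a : P) : Γ ⧸ W) = π x * a * (π x)⁻¹ := fun x a => rfl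
  obtain ⟨V, iV1, iV2, iV3, e, ρ, hρ⟩ := exists_module (fun a : P => Subtype.ext (by simpa using hexp _ a.2)) φ
  have hρ' : ∀ (x : Γ) (a : P), ρ x (e (Additive.ofMul a)) = e (Additive.ofMul (φ x a)) := hρ
  have hsub : ∀ a b : P, e (Additive.ofMul a) - e (Additive.ofMul b) = e (Additive.ofMul (a * b⁻¹)) := by
    intro a b
    rw [← map_sub]
    congr 1
    exact sub_eq_add_neg _ _
  have hV : ∀ v : V, ∃ a : P, v = e (Additive.ofMul a) := by
    intro v
    exact ⟨(e.symm v).toMul, by simp⟩
  -- commutators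
  have hc1 : ∀ a : P, π g * (a : Γ ⧸ W) * (π g)⁻¹ * (a : Γ ⧸ W)⁻¹ ∈ ⁅P, zpowers (π g)⁆ := by
    intro a
    have h2 : ⁅(a : Γ ⧸ W), π g⁆ ∈ ⁅P, zpowers (π g)⁆ := commutator_mem_commutator a.2 (mem_zpowers _)
    have h3 := Subgroup.inv_mem _ h2
    rw [commutatorElement_inv, commutatorElement_def] at h3
    exact h3
  have hq' : ⁅⁅P, zpowers (π g)⁆, zpowers (π g)⁆ = ⊥ := by
    rw [← hz, hP, ← map_commutator, ← map_commutator]
    exact (key _).1 hq
  refine exists_qd (p := p) hp3 hR hr hn ρ ?_ hg ?_ ?_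
  · intro M hM
    let N : Subgroup (Γ ⧸ W) :=
      { carrier := {x | ∃ hx : x ∈ P, e (Additive.ofMul ⟨x, hx⟩) ∈ M}
        one_mem' := ⟨one_mem _, by
          have : e (Additive.ofMul (⟨1, one_mem _⟩ : P)) = 0 := map_zero e
          rw [this]; exact zero_mem M⟩
        mul_mem' := by
          rintro x y ⟨hx, hx'⟩ ⟨hy, hy'⟩
          refine ⟨mul_mem hx hy, ?_⟩
          have : e (Additive.ofMul (⟨x * y, mul_mem hx hy⟩ : P)) =
              e (Additive.ofMul ⟨x, hx⟩) + e (Additive.ofMul ⟨y, hy⟩) :=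
            map_add e (Additive.ofMul (⟨x, hx⟩ : P)) (Additive.ofMul ⟨y, hy⟩)
          rw [this]; exact add_mem hx' hy'
        inv_mem' := by
          rintro x ⟨hx, hx'⟩
          refine ⟨inv_mem hx, ?_⟩
          have : e (Additive.ofMul (⟨x⁻¹, inv_mem hx⟩ : P)) = - e (Additive.ofMul ⟨x, hx⟩) :=
            map_neg e (Additive.ofMul (⟨x, hx⟩ : P))
          rw [this]; exact neg_mem hx' }
    have hNn : N.Normal := by
      refine ⟨?_⟩
      rintro x ⟨hx, hx'⟩ y
      obtain ⟨y, rfl⟩ := hsurj y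
      refine ⟨hPn.conj_mem x hx _, ?_⟩
      have h1 := hM y (by rw [hHR]; trivial) _ hx'
      rw [hρ'] at h1
      exact h1
    have hNP : N ≤ P := fun x hx => hx.1
    rcases hmin N hNn hNP with h1 | h1
    · left
      rw [eq_bot_iff]
      intro v hv
      obtain ⟨a, rfl⟩ := hV v
      have h2 : (a : Γ ⧸ W) ∈ N := ⟨a.2, hv⟩
      rw [h1, mem_bot] at h2
      have h3 : a = 1 := Subtype.ext h2
      rw [h3, Submodule.mem_bot]
      exact map_zero e
    · right
      rw [eq_top_iff]
      intro v _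
      obtain ⟨a, rfl⟩ := hV v
      have h2 : (a : Γ ⧸ W) ∈ N := by rw [h1]; exact a.2
      exact h2.2
  · refine LinearMap.ext fun v => ?_
    obtain ⟨a, rfl⟩ := hV v
    rw [pow_two, Module.End.mul_apply, LinearMap.sub_apply, LinearMap.sub_apply, Module.End.one_apply,
      Module.End.one_apply, hρ', hsub, hρ', hsub, LinearMap.zero_apply]
    have h1 : φ g (φ g a * a⁻¹) * (φ g a * a⁻¹)⁻¹ = 1 := by
      apply Subtype.ext
      have h2 := commutator_mem_commutator (hc1 a) (mem_zpowers (π g))
      rw [hq', mem_bot, commutatorElement_eq_one_iff_commute] at h2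
      rw [mul_inv_eq_one.2]
      apply Subtype.ext
      rw [hφ]
      change π g * (π g * (a : Γ ⧸ W) * (π g)⁻¹ * (a : Γ ⧸ W)⁻¹) * (π g)⁻¹ =
        π g * (a : Γ ⧸ W) * (π g)⁻¹ * (a : Γ ⧸ W)⁻¹
      rw [← h2.eq, mul_inv_cancel_right]
    rw [h1]
    exact map_zero e
  · intro h1
    apply hnt
    rw [key, map_commutator, hz, commutator_comm, commutator_eq_bot_iff_le_centralizer, zpowers_le,
      mem_centralizer_iff]
    intro x hx
    have h2 := hρ' g ⟨x, hx⟩
    rw [h1, Module.End.one_apply] at h2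
    have h3 : (⟨x, hx⟩ : P) = φ g ⟨x, hx⟩ := Additive.ofMul.injective (e.injective h2)
    have h4 := congrArg Subtype.val h3
    rw [hφ] at h4
    change x = π g * x * (π g)⁻¹ at h4
    rw [eq_mul_inv_iff_mul_eq] at h4
    exact h4

end Cfsg.Agent.H25.S30
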