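import Cfsg.Agent.Lib.PGroupCoprimeAction

/-!
# Elements lying in all invariant Sylow subgroups

`R` an `r`-group normalising `H`, `r ∤ |H|`. `InAll p R H g` : `g` lies in every `R`-invariant subgroup of `H` of
index prime to `p`.

* `InAll.of_sylow`, `InAll.map`, `InAll.sub` : equivalence with the Sylow version, images, subgroups;
* `star` : the same for the simple factors: an element of `InAll` goes to every Sylow `p`-subgroup of the simple quotient
  `K` of `H` which is invariant under the elements of `R` acting on `K`.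
-/

set_option autoImplicit false

namespace Cfsg.Agent.H25.S30

open Subgroup

/-- `g` lies in every `R`-invariant subgroup of `H` of index prime to `p`. -/
def InAll {X : Type*} [Group X] (p : ℕ) (R H : Subgroup X) (g : X) : Prop :=
  ∀ T : Subgroup X, T ≤ H → (∀ a ∈ R, ∀ t ∈ T, a * t * a⁻¹ ∈ T) → ¬ p ∣ T.relIndex H → g ∈ T

section Ambient

variable {X : Type*} [Group X] {p : ℕ} {R H : Subgroup X} {g : X}

theorem InAll.mem (h : InAll p R H g) (hp : p ≠ 1) (hn : ∀ a ∈ R, ∀ t ∈ H, a * t * a⁻¹ ∈ H) : g ∈ H :=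
  h H le_rfl hn (by rw [relIndex_self]; exact fun hd => hp (Nat.dvd_one.1 hd))

theorem InAll.map {Y : Type*} [Group Y] (f : X →* Y) (hn : ∀ a ∈ R, ∀ t ∈ H, a * t * a⁻¹ ∈ H)
    (h : InAll p R H g) : InAll p (R.map f) (H.map f) (f g) := by
  intro T hT hinv hp
  have h1 : g ∈ T.comap f ⊓ H := by
    refine h _ inf_le_right ?_ ?_
    · rintro a ha t ⟨ht, htH⟩
      refine ⟨?_, hn a ha t htH⟩
      change f (a * t * a⁻¹) ∈ T
      rw [map_mul, map_mul, map_inv]
      exact hinv _ ⟨a, ha, rfl⟩ _ ht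
    · rwa [inf_relIndex_right, relIndex_comap]
  exact h1.1

/-- a Sylow subgroup of a subgroup of index prime to `p` is a Sylow subgroup -/
theorem sylow_up [Finite X] [hp : Fact p.Prime] {S T H : Subgroup X} (hTH : T ≤ H) (hT : ¬ p ∣ T.relIndex H)
    (hS : ∃ P : Sylow p T, (P : Subgroup T).map T.subtype = S) :
    ∃ P : Sylow p H, (P : Subgroup H).map H.subtype = S := by
  obtain ⟨P, hP⟩ := hS
  have hST : S ≤ T := by rw [← hP]; exact map_subtype_le _
  have hSH : S ≤ H := hST.trans hTH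
  have hSp : IsPGroup p S := by rw [← hP]; exact P.isPGroup'.map _
  have h1 : ¬ p ∣ S.relIndex T := by
    have h2 : S.subgroupOf T = P := by
      rw [← hP]
      exact comap_map_eq_self_of_injective T.subtype_injective _
    rw [relIndex, h2]
    exact P.not_dvd_index
  have h2 : ¬ p ∣ (S.subgroupOf H).index := by
    change ¬ p ∣ S.relIndex H
    rw [← relIndex_mul_relIndex S T H hST hTH]
    intro hd
    rcases (Nat.Prime.dvd_mul hp.out).1 hd with h3 | h3
    · exact h1 h3
    · exact hT h3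
  have h3 : IsPGroup p (S.subgroupOf H) := hSp.comap_of_injective _ H.subtype_injective
  refine ⟨h3.toSylow h2, ?_⟩
  change (S.subgroupOf H).map H.subtype = S
  rw [subgroupOf_map_subtype, inf_eq_left]
  exact hSH

theorem not_dvd_relIndex_sylow [Finite X] [hp : Fact p.Prime] {S H : Subgroup X}
    (hS : ∃ P : Sylow p H, (P : Subgroup H).map H.subtype = S) : S ≤ H ∧ ¬ p ∣ S.relIndex H := by
  obtain ⟨P, rfl⟩ := hS
  refine ⟨map_subtype_le _, ?_⟩
  have h2 : ((P : Subgroup H).map H.subtype).subgroupOf H = P :=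
    comap_map_eq_self_of_injective H.subtype_injective _
  rw [relIndex, h2]
  exact P.not_dvd_index

theorem InAll.mem_sylow [Finite X] [hp : Fact p.Prime] (h : InAll p R H g) {S : Subgroup X}
    (hS : ∃ P : Sylow p H, (P : Subgroup H).map H.subtype = S) (hinv : ∀ a ∈ R, ∀ t ∈ S, a * t * a⁻¹ ∈ S) :
    g ∈ S :=
  h S (not_dvd_relIndex_sylow hS).1 hinv (not_dvd_relIndex_sylow hS).2

theorem InAll.of_sylow [Finite X] [hp : Fact p.Prime] {r : ℕ} [Fact r.Prime] (hR : IsPGroup r R)
    (hr : ¬ r ∣ Nat.card H)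
    (hg : ∀ S : Subgroup X, (∃ P : Sylow p H, (P : Subgroup H).map H.subtype = S) →
      (∀ a ∈ R, ∀ t ∈ S, a * t * a⁻¹ ∈ S) → g ∈ S) : InAll p R H g := by
  intro T hTH hTinv hT
  have hrT : ¬ r ∣ Nat.card T := fun hd => hr (hd.trans (card_dvd_of_le hTH))
  obtain ⟨S, hS, hSinv⟩ := Lib.PGroupCoprimeAction.exists_invariant_sylow hR hrT hTinv p
  have h1 := hg S (sylow_up hTH hT hS) hSinv
  obtain ⟨P, rfl⟩ := hS
  exact map_subtype_le _ h1

theorem InAll.sub [Finite X] [hp : Fact p.Prime] {r : ℕ} [Fact r.Prime] (hR : IsPGroup r R)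
    (hr : ¬ r ∣ Nat.card H) (hn : ∀ a ∈ R, ∀ t ∈ H, a * t * a⁻¹ ∈ H) (h : InAll p R H g) {H₁ : Subgroup X}
    (hH₁ : H₁ ≤ H) (hg : g ∈ H₁) : InAll p R H₁ g := by
  refine InAll.of_sylow hR (fun hd => hr (hd.trans (card_dvd_of_le hH₁))) ?_
  intro S hS hSinv
  obtain ⟨P, rfl⟩ := hS
  obtain ⟨S', hS', hinv', hle⟩ := Lib.PGroupCoprimeAction.exists_invariant_sylow_ge hR hr hn
    ((map_subtype_le _).trans hH₁) (P.isPGroup'.map H₁.subtype) hSinv
  have h1 : g ∈ S' := h.mem_sylow hS' hinv'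
  obtain ⟨P', rfl⟩ := hS'
  have h2 : IsPGroup p (((P' : Subgroup H).map H.subtype).subgroupOf H₁) :=
    (P'.isPGroup'.map H.subtype).comap_of_injective _ H₁.subtype_injective
  have h3 : (P : Subgroup H₁) ≤ ((P' : Subgroup H).map H.subtype).subgroupOf H₁ := by
    intro x hx
    rw [mem_subgroupOf]
    exact hle ⟨x, hx, rfl⟩
  have h4 := P.is_maximal' h2 h3
  refine ⟨⟨g, hg⟩, ?_, rfl⟩
  have h5 : (⟨g, hg⟩ : H₁) ∈ ((P' : Subgroup H).map H.subtype).subgroupOf H₁ := by
    rw [mem_subgroupOf]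
    exact h1
  rw [h4] at h5
  exact h5

end Ambient

section Star

variable {H : Type*} [Group H] {K : Type*} [Group K]

/-- kernels of maps onto nonabelian simple groups are prime -/
theorem prime_ker [IsSimpleGroup K] (hna : ∃ a b : K, a * b ≠ b * a) {ψ : H →* K} (hψ : Function.Surjective ψ)
    {M N : Subgroup H} (hM : M.Normal) (hN : N.Normal) (h : M ⊓ N ≤ ψ.ker) : M ≤ ψ.ker ∨ N ≤ ψ.ker := by
  have hM' : (M.map ψ).Normal := hM.map ψ hψ
  have hN' : (N.map ψ).Normal := hN.map ψ hψ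
  rcases hM'.eq_bot_or_eq_top with h1 | h1
  · left
    exact (Subgroup.map_eq_bot_iff M).1 h1
  rcases hN'.eq_bot_or_eq_top with h2 | h2
  · right
    exact (Subgroup.map_eq_bot_iff N).1 h2
  exfalso
  obtain ⟨a, b, hab⟩ := hna
  apply hab
  have h3 : ⁅M, N⁆.map ψ = ⊥ := by
    rw [Subgroup.map_eq_bot_iff]
    exact (commutator_le_inf M N).trans h
  rw [map_commutator, h1, h2] at h3
  have h4 : a * b * a⁻¹ * b⁻¹ ∈ ⁅(⊤ : Subgroup K), (⊤ : Subgroup K)⁆ :=
    commutator_mem_commutator (mem_top a) (mem_top b)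
  rw [h3, mem_bot, mul_inv_eq_one, mul_inv_eq_iff_eq_mul] at h4
  exact h4

theorem prime_iInf [IsSimpleGroup K] (hna : ∃ a b : K, a * b ≠ b * a) {ψ : H →* K} (hψ : Function.Surjective ψ)
    {ι : Type*} (J : Finset ι) (N : ι → Subgroup H) (hN : ∀ i, (N i).Normal)
    (h : ∀ i ∈ J, ¬ N i ≤ ψ.ker) : ¬ (⨅ i ∈ J, N i) ≤ ψ.ker := by
  classical
  induction J using Finset.induction_on with
  | empty =>
    intro hc
    simp only [Finset.notMem_empty, iInf_false, iInf_top] at hc
    obtain ⟨a, b, hab⟩ := hna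
    obtain ⟨a, rfl⟩ := hψ a
    have h1 : ψ a = 1 := hc (mem_top a)
    rw [h1, one_mul, mul_one] at hab
    exact hab rfl
  | insert b J hb ih =>
    intro hc
    rw [Finset.iInf_insert] at hc
    have hn : (⨅ i ∈ J, N i).Normal := normal_iInf_normal fun i => normal_iInf_normal fun _ => hN i
    rcases prime_ker hna hψ (hN b) hn hc with h1 | h1
    · exact h b (Finset.mem_insert_self b J) h1
    · exact ih (fun i hi => h i (Finset.mem_insert_of_mem hi)) h1

/-- **Invariant subgroups of index prime to `p` from a simple factor.** -/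
theorem star {A : Type*} [Group A] [Finite A] [MulDistribMulAction A H] {p : ℕ} [hp : Fact p.Prime]
    [IsSimpleGroup K] (hna : ∃ a b : K, a * b ≠ b * a) (φ : H →* K) (hφ : Function.Surjective φ) {Q : Subgroup K}
    (hQ : ¬ p ∣ Q.index)
    (hinv : ∀ a : A, (∀ h : H, φ h = 1 → φ (a • h) = 1) → ∀ h : H, φ h ∈ Q → φ (a • h) ∈ Q) :
    ∃ T : Subgroup H, (∀ a : A, ∀ t ∈ T, a • t ∈ T) ∧ ¬ p ∣ T.index ∧ ∀ t ∈ T, φ t ∈ Q := by
  classical
  have : Fintype A := Fintype.ofFinite A
  let ψ : A → (H →* K) := fun a => φ.comp (MulDistribMulAction.toMonoidHom H a⁻¹)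
  have hψ : ∀ (a : A) (h : H), ψ a h = φ (a⁻¹ • h) := fun a h => rfl
  have hψs : ∀ a : A, Function.Surjective (ψ a) := by
    intro a k
    obtain ⟨h, rfl⟩ := hφ k
    exact ⟨a • h, by rw [hψ, inv_smul_smul]⟩
  have hstep : ∀ J : Finset A, ¬ p ∣ (⨅ a ∈ J, Q.comap (ψ a)).index := by
    intro J
    induction J using Finset.induction_on with
    | empty =>
      simp only [Finset.notMem_empty, iInf_false, iInf_top, index_top]
      exact fun hd => hp.out.one_lt.ne' (Nat.dvd_one.1 hd)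
    | insert b J hb ih =>
      rw [Finset.iInf_insert]
      by_cases hc : ∃ a ∈ J, (ψ a).ker ≤ (ψ b).ker
      · obtain ⟨a, haJ, hab⟩ := hc
        have h1 : Q.comap (ψ a) ≤ Q.comap (ψ b) := by
          intro h hh
          have h2 := hinv (b⁻¹ * a) (fun k hk => by
            have h3 : a • k ∈ (ψ a).ker := by
              rw [MonoidHom.mem_ker, hψ, inv_smul_smul]
              exact hk
            have h4 := hab h3
            rw [MonoidHom.mem_ker, hψ, ← mul_smul] at h4
            exact h4) (a⁻¹ • h) hh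
          rw [← mul_smul, mul_assoc, mul_inv_cancel, mul_one] at h2
          exact h2
        have h2 : (⨅ a ∈ J, Q.comap (ψ a)) ≤ Q.comap (ψ b) := (iInf₂_le a haJ).trans h1
        rwa [inf_eq_right.2 h2]
      · push Not at hc
        have h1 := prime_iInf hna (hψs b) J (fun a => (ψ a).ker) (fun a => inferInstance) hc
        have h2 : (⨅ a ∈ J, (ψ a).ker) ≤ ⨅ a ∈ J, Q.comap (ψ a) := by
          refine iInf₂_mono fun a _ => ?_
          intro h hh
          rw [mem_comap, MonoidHom.mem_ker.1 hh]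
          exact one_mem Q
        have hn : (⨅ a ∈ J, (ψ a).ker).Normal :=
          normal_iInf_normal fun i => normal_iInf_normal fun _ => inferInstance
        have h3 : (⨅ a ∈ J, (ψ a).ker).map (ψ b) = ⊤ := by
          have hn' := hn.map (ψ b) (hψs b)
          rcases hn'.eq_bot_or_eq_top with h4 | h4
          · exact absurd ((Subgroup.map_eq_bot_iff _).1 h4) h1
          · exact h4
        have h4 : (⨅ a ∈ J, Q.comap (ψ a)).map (ψ b) = ⊤ :=
          top_le_iff.1 (h3.symm.le.trans (map_mono h2))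
        rw [inf_comm, ← relIndex_mul_index (inf_le_left : (⨅ a ∈ J, Q.comap (ψ a)) ⊓ Q.comap (ψ b) ≤ _),
          inf_relIndex_left, relIndex_comap, h4, relIndex_top_right]
        intro hd
        rcases (Nat.Prime.dvd_mul hp.out).1 hd with h5 | h5
        · exact hQ h5
        · exact ih h5
  refine ⟨⨅ a ∈ (Finset.univ : Finset A), Q.comap (ψ a), ?_, hstep _, ?_⟩
  · intro a t ht
    simp only [Finset.mem_univ, iInf_pos, mem_iInf, mem_comap, hψ] at ht ⊢
    intro b
    have h1 := ht (a⁻¹ * b)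
    rwa [mul_inv_rev, inv_inv, mul_smul] at h1
  · intro t ht
    simp only [Finset.mem_univ, iInf_pos, mem_iInf, mem_comap, hψ] at ht
    have h1 := ht 1
    rwa [inv_one, one_smul] at h1

/-- **The simple factors.** `g` lies in all invariant Sylow `p`-subgroups of `H`, `φ : H → K` onto a nonabelian simple
group: for some `r`-group `B` of automorphisms of `K` the element `φ g` lies in all `B`-invariant Sylow `p`-subgroups. -/
theorem InAll.exists_aut {X : Type*} [Group X] [Finite X] {p r : ℕ} [hp : Fact p.Prime] {R H : Subgroup X}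
    (hR : IsPGroup r R) (hn : ∀ a ∈ R, ∀ t ∈ H, a * t * a⁻¹ ∈ H) {g : X} (h : InAll p R H g) (hg : g ∈ H)
    {K : Type*} [Group K] [IsSimpleGroup K] (hna : ∃ a b : K, a * b ≠ b * a) (φ : H →* K)
    (hφ : Function.Surjective φ) :
    ∃ B : Subgroup (MulAut K), IsPGroup r B ∧ ∀ Q : Sylow p K, (∀ β ∈ B, ∀ k ∈ Q, β k ∈ Q) → φ ⟨g, hg⟩ ∈ Q := by
  let _ := Lib.PGroupCoprimeAction.conjAction R H hn
  have hfK : Finite K := Finite.of_surjective φ hφ
  let B : Subgroup (MulAut K) :=
    { carrier := {β | ∃ a : R, ∀ h : H, β (φ h) = φ (a • h)}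
      one_mem' := ⟨1, fun h => by rw [one_smul]; rfl⟩
      mul_mem' := by
        rintro β γ ⟨a, ha⟩ ⟨b, hb⟩
        refine ⟨a * b, fun h => ?_⟩
        rw [MulAut.mul_apply, hb, ha, mul_smul]
      inv_mem' := by
        rintro β ⟨a, ha⟩
        refine ⟨a⁻¹, fun h => ?_⟩
        apply β.injective
        rw [MulAut.apply_inv_self, ha, smul_inv_smul] }
  refine ⟨B, ?_, ?_⟩
  · rintro ⟨β, a, ha⟩
    obtain ⟨n, hn'⟩ := hR a
    refine ⟨n, Subtype.ext ?_⟩
    have h1 : ∀ (k : ℕ) (h : H), (β ^ k) (φ h) = φ (a ^ k • h) := by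
      intro k
      induction k with
      | zero => intro h; rw [pow_zero, pow_zero, one_smul]; rfl
      | succ k ih => intro h; rw [pow_succ, pow_succ, MulAut.mul_apply, ha, ih, mul_smul]
    change β ^ r ^ n = 1
    ext k
    obtain ⟨k, rfl⟩ := hφ k
    rw [h1, hn', one_smul]
    rfl
  · intro Q hQ
    obtain ⟨T, hT1, hT2, hT3⟩ := star (A := R) (p := p) hna φ hφ (Q := (Q : Subgroup K)) Q.not_dvd_index (by
      intro a ha h hh
      have h1 : φ.ker ≤ (φ.comp (MulDistribMulAction.toMonoidHom H a)).ker := fun k hk => ha k hk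
      let β₀ : K →* K := φ.liftOfSurjective hφ ⟨φ.comp (MulDistribMulAction.toMonoidHom H a), h1⟩
      have hβ₀ : ∀ k, β₀ (φ k) = φ (a • k) := fun k =>
        MonoidHom.liftOfRightInverse_comp_apply φ _ (Function.rightInverse_surjInv hφ)
          ⟨φ.comp (MulDistribMulAction.toMonoidHom H a), h1⟩ k
      have hs : Function.Surjective β₀ := by
        intro k
        obtain ⟨k, rfl⟩ := hφ k
        exact ⟨φ (a⁻¹ • k), by rw [hβ₀, smul_inv_smul]⟩
      have hb : Function.Bijective β₀ := ⟨Finite.injective_iff_surjective.2 hs, hs⟩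
      have h2 := hQ (MulEquiv.ofBijective β₀ hb) ⟨a, fun k => hβ₀ k⟩ _ hh
      rw [← hβ₀]
      exact h2)
    have h1 : g ∈ T.map H.subtype := by
      refine h _ (map_subtype_le _) ?_ ?_
      · rintro a ha _ ⟨t, ht, rfl⟩
        exact ⟨_, hT1 ⟨a, ha⟩ t ht, rfl⟩
      · have h2 : (T.map H.subtype).subgroupOf H = T := comap_map_eq_self_of_injective H.subtype_injective _
        rwa [relIndex, h2]
    obtain ⟨t, ht, htg⟩ := h1
    have h2 : t = ⟨g, hg⟩ := Subtype.ext htg
    rw [← h2]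
    exact hT3 t ht

end Star

end Cfsg.Agent.H25.S30
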