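import Cfsg.Agent.H25.FThree
import Cfsg.Agent.H25.S30Chief
import Cfsg.Agent.Lib.Cores

/-!
# No quadratic element of a simple factor lies in all invariant Sylow subgroups

`no_pack_of` : from the Lie type case; the other simple groups have no coprime automorphisms.
-/

set_option autoImplicit false

namespace Cfsg.Agent.H25.S30

open Subgroup Cfsg
open Cfsg.Agent.CpAut Cfsg.Agent.BpSpor.Inn Cfsg.Agent.H388.EvenFixAll

/-- an element lying in all Sylow `p`-subgroups of a simple group -/
theorem eq_one_of_all_sylow {K : Type*} [Group K] [Finite K] [IsSimpleGroup K] (hna : ∃ a b : K, a * b ≠ b * a)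
    {p : ℕ} [hp : Fact p.Prime] {x : K} (hx : ∀ Q : Sylow p K, x ∈ Q) : x = 1 := by
  have h1 : x ∈ pCore p K := by
    rw [Cfsg.Agent.Lib.Cores.pCore_eq_iInf_sylow, mem_iInf]
    exact hx
  rcases (Cfsg.Agent.Lib.Cores.pCore_normal (G := K) p).eq_bot_or_eq_top with h2 | h2
  · rw [h2] at h1
    exact h1
  · exfalso
    have hKp : IsPGroup p K := (Cfsg.Agent.Lib.Cores.pCore_eq_top_iff p).1 h2
    have hnt : Nontrivial K := by
      obtain ⟨a, b, hab⟩ := hna
      exact ⟨_, _, hab⟩
    have hc := hKp.center_nontrivial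
    rcases (inferInstance : (center K).Normal).eq_bot_or_eq_top with h3 | h3
    · exact (nontrivial_iff_ne_bot (center K)).1 hc h3
    · obtain ⟨a, b, hab⟩ := hna
      apply hab
      have : a ∈ center K := by rw [h3]; trivial
      exact (mem_center_iff.1 this b).symm

theorem no_pack_of {p r : ℕ} [hp : Fact p.Prime] [hrf : Fact r.Prime]
    (hlie : ∀ (M : Type) (_ : AddCommGroup M) (_ : Module (ZMod p) M) (L : Type) (_ : Group L) (K : Type)
      (_ : Group K) (ρ' : L →* Module.End (ZMod p) M) (π : L →* K) (l : L), Finite M → Finite L → Finite K →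
      IsSimpleGroup K → (∃ a b : K, a * b ≠ b * a) → QD ρ' π l → ¬ r ∣ Nat.card K → ∀ B : Subgroup (MulAut K),
      IsPGroup r B → (∀ Q : Sylow p K, (∀ β ∈ B, ∀ k ∈ Q, β k ∈ Q) → π l ∈ Q) → ∀ ℓ : ℕ, ℓ.Prime →
      IsLieTypeChar ℓ K → π l = 1) : ¬ Pack p r := by
  rintro ⟨M, iM, iM2, L, iL, K, iK, ρ, π, l, hM, hL, hK, hs, hna, hqd, hne, hrK, B, hB, hBQ⟩
  have hr := hrf.out
  have hna' : ¬ IsMulCommutative K := by
    intro h
    obtain ⟨a, b, hab⟩ := hna
    exact hab (h.is_comm.comm a b)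
  have hr2 : r ≠ 2 := by
    rintro rfl
    exact hrK (even_card hna').two_dvd
  have key : AutInner r K → False := by
    intro hi
    apply hne
    apply eq_one_of_all_sylow hna (p := p)
    intro Q
    apply hBQ
    intro β hβ k hk
    have h1 : β = 1 := by
      by_contra hβ1
      obtain ⟨n, hn⟩ := hB ⟨β, hβ⟩
      have hn' : β ^ r ^ n = 1 := congrArg Subtype.val hn
      obtain ⟨m, -, hm⟩ := (Nat.dvd_prime_pow hr).1 (orderOf_dvd_of_pow_eq_one hn')
      have hm0 : m ≠ 0 := by
        rintro rfl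
        rw [pow_zero, orderOf_eq_one_iff] at hm
        exact hβ1 hm
      obtain ⟨k, rfl⟩ := Nat.exists_eq_succ_of_ne_zero hm0
      have h2 : (β ^ r ^ k) ^ r = 1 := by
        rw [← pow_mul, ← pow_succ, ← hm, pow_orderOf_eq_one]
      have h3 := eq_one_of_inner hna' hr hrK hi h2
      have h4 := orderOf_dvd_of_pow_eq_one h3
      rw [hm] at h4
      have h5 := Nat.le_of_dvd (pow_pos hr.pos k) h4
      exact absurd h5 (not_le.2 (Nat.pow_lt_pow_right hr.one_lt (Nat.lt_succ_self k)))
    rw [h1]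
    exact hk
  have lie : ∀ ℓ : ℕ, ℓ.Prime → IsLieTypeChar ℓ K → False := fun ℓ hℓ h =>
    hne (hlie M iM iM2 L iL K iK ρ π l hM hL hK hs hna hqd hrK B hB hBQ ℓ hℓ h)
  rcases OddHalf.Known.classify hna' S0000.result with h | ⟨p, hp, -, h⟩ | (h | h) | h
  · obtain ⟨n, hn, ⟨e⟩⟩ := h
    rcases (show n = 5 ∨ n = 6 ∨ 7 ≤ n by omega) with rfl | rfl | h7
    · let _ : Fintype (GaloisField 2 2) := Fintype.ofFinite _
      have hF : Fintype.card (GaloisField 2 2) = 4 := by
        rw [Fintype.card_eq_nat_card, GaloisField.card 2 2 (by norm_num)]; norm_num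
      obtain ⟨f⟩ := S0252.result hF
      exact lie 2 Nat.prime_two (Or.inl ⟨GaloisField 2 2, inferInstance, inferInstance, inferInstance, 2, le_rfl,
        fun _ => hF.ge, ⟨e.trans f.symm⟩⟩)
    · let _ : Fintype (GaloisField 3 2) := Fintype.ofFinite _
      have hF : Fintype.card (GaloisField 3 2) = 9 := by
        rw [Fintype.card_eq_nat_card, GaloisField.card 3 2 (by norm_num)]; norm_num
      obtain ⟨f⟩ := S0254.result hF
      exact lie 3 Nat.prime_three (Or.inl ⟨GaloisField 3 2, inferInstance, inferInstance, inferInstance, 2, le_rfl,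
        fun _ => by rw [hF]; norm_num, ⟨e.trans f.symm⟩⟩)
    · exact key ((autInner_alt h7 hr hr2).congr e.symm)
  · exact lie p hp h
  · exact lie 2 Nat.prime_two h
  · exact key (tits h r hr hr2)
  · exact key (oddInn_sporadic h r hr hr2)

end Cfsg.Agent.H25.S30
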