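import Cfsg.Agent.H25.S30Quad
import Cfsg.Agent.H25.S30Inv
import Cfsg.Agent.S5063

/-!
# From an irreducible module to a quasisimple linear group containing the quadratic element

* `lin_qd` : `N` irreducible on `M`, generated by quadratic elements, `g ∈ N` quadratic: a `QD` datum for a simple quotient
  of `N` (by S5063);
* `exists_qd` : `V` irreducible for `H ⊔ R`, `g ∈ H` quadratic and in all `R`-invariant Sylow `p`-subgroups.
-/

set_option autoImplicit false

namespace Cfsg.Agent.H25.S30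

open Subgroup

section

variable {p : ℕ} [hp : Fact p.Prime]

theorem central_eq_one {N : Type*} [Group N] {M : Type*} [AddCommGroup M] [Module (ZMod p) M] [Finite M]
    (σ : N →* Module.End (ZMod p) M) (hne : ∃ m : M, m ≠ 0)
    (hirr : ∀ W : Submodule (ZMod p) M, (∀ n, ∀ w ∈ W, σ n w ∈ W) → W = ⊥ ∨ W = ⊤) {z : Module.End (ZMod p) M}
    (hz : z ^ p = 1) (hcomm : ∀ n, z * σ n = σ n * z) : z = 1 := by
  obtain ⟨m, hm⟩ := hne
  have hnt : Nontrivial M := ⟨m, 0, hm⟩
  have hch := charP_end (p := p) (V := M)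
  have h1 : (z - 1) ^ p = 0 := by
    rw [sub_pow_char_of_commute _ (Commute.one_right z), hz, one_pow, sub_self]
  rcases hirr (LinearMap.ker (z - 1)) (by
    intro n w hw
    rw [LinearMap.mem_ker, LinearMap.sub_apply, sub_eq_zero, Module.End.one_apply] at hw ⊢
    have := congrArg (fun T : Module.End (ZMod p) M => T w) (hcomm n)
    simp only [Module.End.mul_apply] at this
    rw [this, hw]) with h2 | h2
  · exfalso
    have h3 : Function.Injective (⇑(z - 1) : M → M) := LinearMap.ker_eq_bot.1 h2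
    have h4 : Function.Injective (⇑((z - 1) ^ p) : M → M) := by
      rw [Module.End.coe_pow]
      exact h3.iterate p
    rw [h1] at h4
    exact hm (h4 (by simp))
  · ext w
    have : w ∈ LinearMap.ker (z - 1) := by rw [h2]; trivial
    rw [LinearMap.mem_ker, LinearMap.sub_apply, sub_eq_zero, Module.End.one_apply] at this
    rw [this, Module.End.one_apply]

theorem sq_zero_pow {M : Type*} [AddCommGroup M] [Module (ZMod p) M] {t : Module.End (ZMod p) M}
    (ht : (t - 1) ^ 2 = 0) (k : ℕ) : t ^ k = 1 + (k : ZMod p) • (t - 1) := by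
  induction k with
  | zero => simp
  | succ k ih =>
    have h1 : (t - 1) * t = t - 1 := by
      have h2 : (t - 1) * t = (t - 1) ^ 2 + (t - 1) := by rw [pow_two, mul_sub, mul_one]; abel
      rw [h2, ht, zero_add]
    rw [pow_succ, ih, add_mul, one_mul, smul_mul_assoc, h1, Nat.cast_succ, add_smul, one_smul]
    abel

/-- **The simple factor containing a quadratic element.** -/
theorem lin_qd (hp3 : 3 < p) {N : Type*} [Group N] [Finite N] {M : Type} [AddCommGroup M] [Module (ZMod p) M]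
    [Finite M] (σ : N →* Module.End (ZMod p) M) (hne : ∃ m : M, m ≠ 0)
    (hirr : ∀ W : Submodule (ZMod p) M, (∀ n, ∀ w ∈ W, σ n w ∈ W) → W = ⊥ ∨ W = ⊤)
    (hgen : closure {n : N | (σ n - 1) ^ 2 = 0} = ⊤) {g : N} (hg : (σ g - 1) ^ 2 = 0) (hg1 : σ g ≠ 1) :
    ∃ (L : Type) (_ : Group L) (K : Type) (_ : Group K) (ρ' : L →* Module.End (ZMod p) M) (π : L →* K) (l : L)
      (φ : N →* K), Finite L ∧ IsSimpleGroup K ∧ (∃ a b : K, a * b ≠ b * a) ∧ QD ρ' π l ∧
        Function.Surjective φ ∧ φ g = π l ∧ π l ≠ 1 := by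
  classical
  have hfd : FiniteDimensional (ZMod p) M := Module.Finite.of_finite
  have hfE : Finite (Module.End (ZMod p) M) := Module.finite_of_finite (ZMod p)
  have hfG : Finite (LinearMap.GeneralLinearGroup (ZMod p) M) :=
    Finite.of_injective (Units.coeHom (Module.End (ZMod p) M)) Units.val_injective
  let σu : N →* LinearMap.GeneralLinearGroup (ZMod p) M := σ.toHomUnits
  have hσu : ∀ n, ((σu n : LinearMap.GeneralLinearGroup (ZMod p) M) : Module.End (ZMod p) M) = σ n := fun n => rfl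
  set G := σu.range with hG
  have hquad : ∀ n, (σ n - 1) ^ 2 = 0 → σ n ≠ 1 → σu n ∈ Cfsg.quadraticElements G := by
    intro n hn h1
    refine ⟨⟨n, rfl⟩, ⟨?_, ?_⟩, ?_⟩
    · rw [← pow_two]
      exact hn
    · exact sub_ne_zero.2 h1
    · rintro τ ⟨c, hc⟩
      refine ⟨n ^ c.val, Units.ext ?_⟩
      rw [hσu, map_pow, sq_zero_pow hn, ZMod.natCast_zmod_val]
      exact hc.symm
  have hpair : Cfsg.IsQuadraticPair G := by
    refine ⟨⟨hne, fun W hW => hirr W fun n w hw => hW (σu n) ⟨n, rfl⟩ w hw⟩, le_antisymm ?_ ?_⟩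
    · rw [closure_le]
      exact fun x hx => hx.1
    · have h0 : (closure {n : N | (σ n - 1) ^ 2 = 0}).map σu ≤ closure (Cfsg.quadraticElements G) := by
        rw [MonoidHom.map_closure, closure_le]
        rintro _ ⟨n, hn, rfl⟩
        by_cases h1 : σ n = 1
        · have h2 : σu n = 1 := Units.ext h1
          rw [h2]
          exact one_mem _
        · exact subset_closure (hquad n hn h1)
      rw [hgen, ← MonoidHom.range_eq_map] at h0
      exact h0
  obtain ⟨s, Gi, hGi, hcomm, hsup, hqs, hmem⟩ := S5063.result (k := ZMod p) (M := M)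
    (by rw [ZMod.ringChar_zmod_n]; omega) (by rw [Nat.card_zmod]; omega) hpair
  have hgG := hmem (hquad g hg hg1)
  rw [Set.mem_iUnion] at hgG
  obtain ⟨i, hgi⟩ := hgG
  have hqsi := (hqs i).1
  have hle : Gi i ≤ G := (hGi i).1
  let C : Subgroup (LinearMap.GeneralLinearGroup (ZMod p) M) := centralizer (Gi i : Set _)
  let NN : Subgroup G := C.subgroupOf G
  have hNN : NN.Normal := by
    refine ⟨?_⟩
    rintro ⟨c, hcG⟩ hc ⟨x, hx⟩
    change x * c * x⁻¹ ∈ C
    rw [mem_centralizer_iff]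
    intro y hy
    have h1 := (hGi i).2 x hx
    have h2 : y ∈ Cfsg.conjBy (Gi i) x := by rw [h1]; exact hy
    obtain ⟨w, hw, rfl⟩ := h2
    have h3 : w * c = c * w := mem_centralizer_iff.1 hc w hw
    change x * w * x⁻¹ * (x * c * x⁻¹) = x * c * x⁻¹ * (x * w * x⁻¹)
    calc x * w * x⁻¹ * (x * c * x⁻¹) = x * (w * c) * x⁻¹ := by group
      _ = x * (c * w) * x⁻¹ := by rw [h3]
      _ = _ := by group
  let π : Gi i →* (G ⧸ NN) := (QuotientGroup.mk' NN).comp (inclusion hle)
  let φ : N →* (G ⧸ NN) := (QuotientGroup.mk' NN).comp σu.rangeRestrict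
  have hφ : Function.Surjective φ := (QuotientGroup.mk'_surjective NN).comp σu.rangeRestrict_surjective
  have hπ : Function.Surjective π := by
    have h1 : G ≤ (π.range.comap (QuotientGroup.mk' NN)).map G.subtype := by
      refine hsup.symm.le.trans (iSup_le fun j => ?_)
      intro x hx
      have hxG : x ∈ G := (hGi j).1 hx
      refine ⟨⟨x, hxG⟩, ?_, rfl⟩
      by_cases hij : j = i
      · subst hij
        exact ⟨⟨x, hx⟩, rfl⟩
      · have h2 : (QuotientGroup.mk' NN) (⟨x, hxG⟩ : G) = 1 := by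
          rw [QuotientGroup.mk'_apply, QuotientGroup.eq_one_iff]
          change x ∈ C
          exact (commutator_eq_bot_iff_le_centralizer.1 (hcomm j i hij)) hx
        rw [SetLike.mem_coe, mem_comap, h2]
        exact one_mem _
    intro k
    obtain ⟨x, rfl⟩ := QuotientGroup.mk'_surjective NN k
    obtain ⟨y, hy, hyx⟩ := h1 x.2
    have h2 : y = x := Subtype.ext hyx
    subst h2
    exact hy
  have hker : ∀ x : Gi i, π x = 1 ↔ (x : LinearMap.GeneralLinearGroup (ZMod p) M) ∈ C := by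
    intro x
    change (QuotientGroup.mk' NN) (inclusion hle x) = 1 ↔ _
    rw [QuotientGroup.mk'_apply, QuotientGroup.eq_one_iff]
    rfl
  have hcen : π.ker ≤ center (Gi i) := by
    intro x hx
    rw [mem_center_iff]
    intro y
    apply Subtype.ext
    exact mem_centralizer_iff.1 ((hker x).1 hx) y y.2
  have hcen' : ∀ x ∈ center (Gi i), π x = 1 := by
    intro x hx
    rw [hker, mem_centralizer_iff]
    intro y hy
    exact congrArg Subtype.val (mem_center_iff.1 hx ⟨y, hy⟩)
  let ρ' : Gi i →* Module.End (ZMod p) M := (Units.coeHom _).comp (Gi i).subtype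
  have hinj : Function.Injective ρ' := Units.val_injective.comp (Gi i).subtype_injective
  have hcop : (Nat.card π.ker).Coprime p := by
    rw [Nat.coprime_comm, Nat.Prime.coprime_iff_not_dvd hp.out]
    intro hd
    obtain ⟨z, hz⟩ := exists_prime_orderOf_dvd_card' (G := π.ker) p hd
    have hzC : ((z : Gi i) : LinearMap.GeneralLinearGroup (ZMod p) M) ∈ C := (hker z).1 z.2
    have hzG : G ≤ centralizer {((z : Gi i) : LinearMap.GeneralLinearGroup (ZMod p) M)} := by
      refine hsup.symm.le.trans (iSup_le fun j => ?_)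
      intro x hx
      rw [mem_centralizer_singleton_iff]
      by_cases hij : j = i
      · subst hij
        exact mem_centralizer_iff.1 hzC x hx
      · exact (mem_centralizer_iff.1 ((commutator_eq_bot_iff_le_centralizer.1 (hcomm j i hij)) hx) _ z.1.2).symm
    have h1 : (((z : Gi i) : LinearMap.GeneralLinearGroup (ZMod p) M) : Module.End (ZMod p) M) = 1 := by
      refine central_eq_one σ hne hirr ?_ ?_
      · have h2 : z ^ p = 1 := orderOf_dvd_iff_pow_eq_one.1 hz.dvd
        have h3 : (((z : Gi i) : LinearMap.GeneralLinearGroup (ZMod p) M)) ^ p = 1 := by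
          have := congrArg (fun y : π.ker => ((y : Gi i) : LinearMap.GeneralLinearGroup (ZMod p) M)) h2
          simpa using this
        rw [← Units.val_pow_eq_pow_val, h3, Units.val_one]
      · intro n
        have h2 := mem_centralizer_singleton_iff.1 (hzG ⟨n, rfl⟩)
        exact (congrArg Units.val h2).symm
    have h2 : z = 1 := Subtype.ext (Subtype.ext (Units.ext h1))
    rw [h2, orderOf_one] at hz
    exact hp.out.one_lt.ne hz
  have hqd : QD ρ' π ⟨σu g, hgi⟩ :=
    { inj := hinj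
      sq := hg
      surj := hπ
      cen := hcen
      perf := hqsi.1.commutator_eq_top
      cop := hcop }
  have hl1 : π ⟨σu g, hgi⟩ ≠ 1 := by
    intro h1
    have h2 : orderOf (⟨σu g, hgi⟩ : Gi i) ∣ p := orderOf_dvd_of_pow_eq_one (pow_eq_one hinj hqd.sq)
    have h3 : orderOf (⟨σu g, hgi⟩ : Gi i) ∣ Nat.card π.ker := by
      have := orderOf_dvd_natCard (⟨⟨σu g, hgi⟩, h1⟩ : π.ker)
      rwa [← Subgroup.orderOf_coe] at this
    have h4 := orderOf_eq_one_iff.1 (Nat.eq_one_of_dvd_coprimes hcop h3 h2)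
    apply hg1
    have h5 : σu g = 1 := congrArg Subtype.val h4
    have h6 := congrArg Units.val h5
    exact h6
  have hnt : Nontrivial (G ⧸ NN) := ⟨_, _, hl1⟩
  have hsimple : IsSimpleGroup (G ⧸ NN) := by
    have h1 := hqsi.2
    refine IsSimpleGroup.isSimpleGroup_of_surjective (QuotientGroup.lift (center (Gi i)) π hcen') ?_
    intro k
    obtain ⟨x, rfl⟩ := hπ k
    exact ⟨QuotientGroup.mk x, rfl⟩
  refine ⟨Gi i, inferInstance, G ⧸ NN, inferInstance, ρ', π, ⟨σu g, hgi⟩, φ, inferInstance, hsimple, ?_, hqd, hφ,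
    rfl, hl1⟩
  by_contra hc
  push Not at hc
  have h1 : commutator (G ⧸ NN) = ⊤ := by
    rw [_root_.commutator_def, ← Subgroup.map_top_of_surjective π hπ, ← Subgroup.map_commutator,
      ← _root_.commutator_def, hqsi.1.commutator_eq_top]
  have h2 : commutator (G ⧸ NN) = ⊥ := by
    rw [_root_.commutator_def, eq_bot_iff, commutator_le]
    intro a _ b _
    rw [mem_bot, commutatorElement_def, hc a b, mul_assoc, ← mul_inv_rev, mul_inv_cancel]
  rw [h1] at h2
  exact hl1 (by
    have : π ⟨σu g, hgi⟩ ∈ (⊤ : Subgroup (G ⧸ NN)) := mem_top _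
    rwa [h2, mem_bot] at this)

/-- **From an irreducible module to the simple factors.** -/
theorem exists_qd (hp3 : 3 < p) {Γ : Type*} [Group Γ] [Finite Γ] {r : ℕ} [Fact r.Prime] {R H : Subgroup Γ}
    (hR : IsPGroup r R) (hr : ¬ r ∣ Nat.card H) (hn : ∀ a ∈ R, ∀ t ∈ H, a * t * a⁻¹ ∈ H) {V : Type}
    [AddCommGroup V] [Module (ZMod p) V] [Finite V] (ρ : Γ →* Module.End (ZMod p) V)
    (hirr : ∀ W : Submodule (ZMod p) V, (∀ γ ∈ H ⊔ R, ∀ w ∈ W, ρ γ w ∈ W) → W = ⊥ ∨ W = ⊤) {g : Γ}
    (hg : InAll p R H g) (hq : (ρ g - 1) ^ 2 = 0) (hne : ρ g ≠ 1) :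
    ∃ (M : Type) (_ : AddCommGroup M) (_ : Module (ZMod p) M) (L : Type) (_ : Group L) (K : Type) (_ : Group K)
      (ρ' : L →* Module.End (ZMod p) M) (π : L →* K) (l : L), Finite M ∧ Finite L ∧ Finite K ∧ IsSimpleGroup K ∧
        (∃ a b : K, a * b ≠ b * a) ∧ QD ρ' π l ∧ π l ≠ 1 ∧ ¬ r ∣ Nat.card K ∧
        ∃ B : Subgroup (MulAut K), IsPGroup r B ∧ ∀ Q : Sylow p K, (∀ β ∈ B, ∀ k ∈ Q, β k ∈ Q) → π l ∈ Q := by
  classical
  have hgH : g ∈ H := hg.mem hp.out.ne_one hn
  let S : Set Γ := {h | h ∈ H ∧ (ρ h - 1) ^ 2 = 0}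
  set N := closure S with hN
  have hNH : N ≤ H := by
    rw [hN, closure_le]
    exact fun x hx => hx.1
  have hgN : g ∈ N := subset_closure ⟨hgH, hq⟩
  have hHR : ∀ γ ∈ H ⊔ R, ∀ h ∈ H, γ * h * γ⁻¹ ∈ H := by
    intro γ hγ
    have h1 : H ⊔ R ≤ normalizer (H : Set Γ) := by
      refine sup_le le_normalizer ?_
      intro a ha
      rw [mem_normalizer_iff]
      intro x
      refine ⟨fun hx => hn a ha x hx, fun hx => ?_⟩
      have h2 := hn a⁻¹ (inv_mem ha) _ hx
      have h3 : a⁻¹ * (a * x * a⁻¹) * a⁻¹⁻¹ = x := by group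
      rwa [h3] at h2
    intro h hh
    exact (mem_normalizer_iff.1 (h1 hγ) h).1 hh
  have hnN : ∀ γ ∈ H ⊔ R, ∀ h ∈ N, γ * h * γ⁻¹ ∈ N := by
    intro γ hγ h hh
    have h1 : N.map (MulAut.conj γ).toMonoidHom ≤ N := by
      rw [hN, MonoidHom.map_closure, closure_le]
      rintro _ ⟨x, hx, rfl⟩
      refine subset_closure ⟨hHR γ hγ x hx.1, ?_⟩
      exact quad_conj hx.2 γ
    exact h1 ⟨h, hh, rfl⟩
  -- the minimal `N`-submodules
  let Inv : Submodule (ZMod p) V → Prop := fun M => ∀ n ∈ N, ∀ w ∈ M, ρ n w ∈ M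
  let 𝓜 : Set (Submodule (ZMod p) V) := {M | M ≠ ⊥ ∧ Inv M ∧ ∀ M' : Submodule (ZMod p) V, M' ≤ M → Inv M' →
    M' = ⊥ ∨ M' = M}
  have hmul : ∀ (γ δ : Γ) (v : V), ρ γ (ρ δ v) = ρ (γ * δ) v := by
    intro γ δ v
    rw [map_mul, Module.End.mul_apply]
  have hone : ∀ v : V, ρ 1 v = v := by
    intro v
    rw [map_one, Module.End.one_apply]
  have hInvmap : ∀ γ ∈ H ⊔ R, ∀ M, Inv M → Inv (M.map (ρ γ)) := by
    intro γ hγ M hM n hnn w hw
    obtain ⟨m, hm, rfl⟩ := hw
    refine ⟨ρ (γ⁻¹ * n * γ) m, ?_, ?_⟩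
    · have h1 := hnN γ⁻¹ (inv_mem hγ) n hnn
      rw [inv_inv] at h1
      exact hM _ h1 m hm
    · rw [hmul, hmul]
      congr 2
      group
  have hback : ∀ (γ : Γ) (M : Submodule (ZMod p) V), (M.map (ρ γ)).map (ρ γ⁻¹) = M := by
    intro γ M
    rw [← Submodule.map_comp]
    have h1 : (ρ γ⁻¹) ∘ₗ (ρ γ) = LinearMap.id := by
      ext v
      rw [LinearMap.comp_apply, hmul, inv_mul_cancel, hone, LinearMap.id_apply]
    rw [h1, Submodule.map_id]
  have hMmap : ∀ γ ∈ H ⊔ R, ∀ M ∈ 𝓜, M.map (ρ γ) ∈ 𝓜 := by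
    rintro γ hγ M ⟨h1, h2, h3⟩
    refine ⟨?_, hInvmap γ hγ M h2, ?_⟩
    · intro h4
      apply h1
      rw [← hback γ M, h4, Submodule.map_bot]
    · intro M' hM' hi
      have h4 : M'.map (ρ γ⁻¹) ≤ M := by
        rw [← hback γ M]
        exact Submodule.map_mono hM'
      have h5 := hback γ⁻¹ M'
      rw [inv_inv] at h5
      rcases h3 _ h4 (hInvmap γ⁻¹ (inv_mem hγ) M' hi) with h6 | h6
      · left
        rw [← h5, h6, Submodule.map_bot]
      · right
        rw [← h5, h6]
  have hVne : ∃ v : V, ρ g v ≠ v := by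
    by_contra hc
    push Not at hc
    exact hne (LinearMap.ext hc)
  have hMne : ∃ M, M ∈ 𝓜 := by
    have h1 : {M : Submodule (ZMod p) V | M ≠ ⊥ ∧ Inv M}.Nonempty := by
      refine ⟨⊤, ?_, fun _ _ _ _ => trivial⟩
      intro h1
      obtain ⟨v, hv⟩ := hVne
      have h2 : ∀ w : V, w = 0 := fun w => (Submodule.mem_bot (ZMod p)).1 (h1 ▸ Submodule.mem_top)
      exact hv ((h2 _).trans (h2 _).symm)
    have hfin : Finite (Submodule (ZMod p) V) := Finite.of_injective (fun M => (M : Set V)) SetLike.coe_injective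
    obtain ⟨M, hM⟩ := (Set.toFinite {M : Submodule (ZMod p) V | M ≠ ⊥ ∧ Inv M}).exists_minimal h1
    refine ⟨M, hM.1.1, hM.1.2, fun M' hM' hi => ?_⟩
    by_cases h0 : M' = ⊥
    · exact Or.inl h0
    · exact Or.inr (le_antisymm hM' (hM.2 ⟨h0, hi⟩ hM'))
  have hW : sSup 𝓜 = ⊤ := by
    rcases hirr (sSup 𝓜) (by
      intro γ hγ w hw
      have h1 : (sSup 𝓜).map (ρ γ) ≤ sSup 𝓜 := by
        rw [sSup_eq_iSup, Submodule.map_iSup]
        refine iSup_le fun M => ?_
        rw [Submodule.map_iSup]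
        refine iSup_le fun hM => ?_
        rw [← sSup_eq_iSup]
        exact le_sSup (hMmap γ hγ M hM)
      exact h1 ⟨w, hw, rfl⟩) with h1 | h1
    · exfalso
      obtain ⟨M, hM⟩ := hMne
      exact hM.1 (le_bot_iff.1 ((le_sSup hM).trans h1.le))
    · exact h1
  obtain ⟨M, hM, m, hm, hgm⟩ : ∃ M ∈ 𝓜, ∃ m ∈ M, ρ g m ≠ m := by
    by_contra hc
    push Not at hc
    obtain ⟨v, hv⟩ := hVne
    apply hv
    have h1 : sSup 𝓜 ≤ LinearMap.ker (ρ g - 1) := by
      refine sSup_le fun M hM m hm => ?_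
      rw [LinearMap.mem_ker, LinearMap.sub_apply, Module.End.one_apply, sub_eq_zero]
      exact hc M hM m hm
    have h2 : v ∈ LinearMap.ker (ρ g - 1) := h1 (by rw [hW]; trivial)
    rw [LinearMap.mem_ker, LinearMap.sub_apply, Module.End.one_apply, sub_eq_zero] at h2
    exact h2
  obtain ⟨hM0, hMi, hMm⟩ := hM
  let σ : N →* Module.End (ZMod p) M :=
    { toFun := fun n => (ρ n).restrict (hMi n n.2)
      map_one' := by
        ext w
        exact hone w
      map_mul' := by
        intro a b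
        ext w
        exact (hmul a b w).symm }
  have hσ : ∀ (n : N) (w : M), ((σ n w : M) : V) = ρ n w := fun n w => rfl
  have hσq : ∀ n : N, (ρ n - 1) ^ 2 = 0 → (σ n - 1) ^ 2 = 0 := by
    intro n hq'
    ext w
    have h1 := congrArg (fun T : Module.End (ZMod p) V => T w) hq'
    simp only [pow_two, Module.End.mul_apply, LinearMap.sub_apply, Module.End.one_apply,
      LinearMap.zero_apply] at h1 ⊢
    simpa [hσ] using h1
  obtain ⟨L, iL, K, iK, ρ', π, l, φ, hLf, hKs, hna, hqd, hφ, hφg, hl⟩ := lin_qd (p := p) hp3 σ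
    (by
      obtain ⟨x, hx, hx0⟩ := (Submodule.ne_bot_iff M).1 hM0
      exact ⟨⟨x, hx⟩, fun h => hx0 (congrArg Subtype.val h)⟩)
    (by
      intro W hWi
      have h1 : Inv (W.map M.subtype) := by
        rintro n hnn _ ⟨w, hw, rfl⟩
        exact ⟨σ ⟨n, hnn⟩ w, hWi ⟨n, hnn⟩ w hw, rfl⟩
      rcases hMm _ (Submodule.map_subtype_le M W) h1 with h2 | h2
      · left
        rw [← Submodule.map_bot M.subtype] at h2
        exact Submodule.map_injective_of_injective M.injective_subtype h2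
      · right
        exact Submodule.map_injective_of_injective M.injective_subtype (h2.trans (Submodule.map_subtype_top M).symm))
    (by
      rw [eq_top_iff, ← closure_closure_coe_preimage (k := S)]
      refine closure_mono ?_
      intro n hnn
      exact hσq n hnn.2)
    (g := ⟨g, hgN⟩) (hσq _ hq)
    (by
      intro h1
      apply hgm
      have h2 := congrArg (fun T : Module.End (ZMod p) M => ((T ⟨m, hm⟩ : M) : V)) h1
      exact h2)
  have hKf : Finite K := Finite.of_surjective φ hφ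
  have hRN : ∀ a ∈ R, ∀ t ∈ N, a * t * a⁻¹ ∈ N := fun a ha => hnN a (mem_sup_right ha)
  obtain ⟨B, hB, hBQ⟩ := InAll.exists_aut (p := p) hR hRN (hg.sub hR hr hn hNH hgN) hgN hna φ hφ
  refine ⟨M, inferInstance, inferInstance, L, iL, K, iK, ρ', π, l, inferInstance, hLf, hKf, hKs, hna, hqd, hl, ?_,
    B, hB, ?_⟩
  · intro hd
    exact hr (hd.trans ((card_dvd_of_surjective φ hφ).trans (card_dvd_of_le hNH)))
  · intro Q hQ
    rw [← hφg]
    exact hBQ Q hQ

end

end Cfsg.Agent.H25.S30
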