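import Cfsg.Agent.PLocal.QuadSection
import Cfsg.Agent.PLocal.SL2Perfect
import Cfsg.Agent.PLocal.SLTwoSylow
import Cfsg.Agent.H879.QuadPair
import Cfsg.Agent.S0199

/-!
# Quadratic elements of linear groups over `ZMod p`, `p > 3`, and of their central quotients

* `comm_of_coprime` : a quadratic element centralises every `p'`-subgroup it normalises;
* `QD ρ π l` : `l` is a quadratic element of the perfect group `L ≤ GL(V)`, `π : L → K` has a central kernel of order
  prime to `p`;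
* `QD.comm`, `QD.exists_involution`, `QD.three_dvd`, `QD.sylow_two`.
-/

set_option autoImplicit false

namespace Cfsg.Agent.H25.S30

open Subgroup Matrix

universe u v w

section Linear

variable {p : ℕ} [hp : Fact p.Prime] {E : Type*} [Group E] [Finite E] {V : Type*} [AddCommGroup V]
  [Module (ZMod p) V] [Finite V]

theorem quad_apply {ρ : E →* Module.End (ZMod p) V} {t : E} (ht : (ρ t - 1) ^ 2 = 0) (w : V) :
    ρ t (ρ t w - w) = ρ t w - w := by
  have h2 := congrArg (fun T : Module.End (ZMod p) V => T w) ht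
  simp only [pow_two, Module.End.mul_apply, LinearMap.sub_apply, Module.End.one_apply,
    LinearMap.zero_apply] at h2
  exact sub_eq_zero.mp h2

theorem charP_end [Nontrivial V] : CharP (Module.End (ZMod p) V) p :=
  charP_of_injective_algebraMap (FaithfulSMul.algebraMap_injective (ZMod p) (Module.End (ZMod p) V)) p

theorem pow_eq_one {ρ : E →* Module.End (ZMod p) V} (hρ : Function.Injective ρ) {t : E} (ht : (ρ t - 1) ^ 2 = 0) :
    t ^ p = 1 := by
  apply hρ
  rw [map_pow, map_one]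
  rcases subsingleton_or_nontrivial V with h | h
  · exact Subsingleton.elim _ _
  · have := charP_end (p := p) (V := V)
    exact PLocal.QuadSection.pow_eq_one_of_sq _ ht

theorem quad_conj {ρ : E →* Module.End (ZMod p) V} {t : E} (ht : (ρ t - 1) ^ 2 = 0) (y : E) :
    (ρ (y * t * y⁻¹) - 1) ^ 2 = 0 := by
  have h1 : ρ (y * t * y⁻¹) - 1 = ρ y * (ρ t - 1) * ρ y⁻¹ := by
    rw [mul_sub, sub_mul, mul_one, ← map_mul, ← map_mul, ← map_mul, mul_inv_cancel, map_one]
  have h2 : ρ y⁻¹ * ρ y = 1 := by rw [← map_mul, inv_mul_cancel, map_one]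
  rw [h1, pow_two]
  calc ρ y * (ρ t - 1) * ρ y⁻¹ * (ρ y * (ρ t - 1) * ρ y⁻¹)
      = ρ y * (ρ t - 1) * (ρ y⁻¹ * ρ y) * (ρ t - 1) * ρ y⁻¹ := by simp only [mul_assoc]
    _ = ρ y * ((ρ t - 1) ^ 2) * ρ y⁻¹ := by rw [h2, mul_one, pow_two]; simp only [mul_assoc]
    _ = 0 := by rw [ht, mul_zero, zero_mul]

/-- two quadratic elements not generating a `p`-group: a section `SL(2, p)` -/
theorem exists_sl (hp2 : p ≠ 2) {ρ : E →* Module.End (ZMod p) V} (hρ : Function.Injective ρ) {t s : E}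
    (ht : (ρ t - 1) ^ 2 = 0) (hs : (ρ s - 1) ^ 2 = 0) (hnp : ¬ IsPGroup p (closure ({t, s} : Set E))) :
    ∃ (L : Subgroup (closure ({t, s} : Set E))) (f : L →* Matrix.SpecialLinearGroup (Fin 2) (ZMod p)),
      Function.Surjective f := by
  have htL : t ∈ closure ({t, s} : Set E) := subset_closure (by simp)
  have hsL : s ∈ closure ({t, s} : Set E) := subset_closure (by simp)
  have hgen : closure ({⟨t, htL⟩, ⟨s, hsL⟩} : Set (closure ({t, s} : Set E))) = ⊤ := by
    apply Subgroup.map_injective (closure ({t, s} : Set E)).subtype_injective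
    rw [MonoidHom.map_closure, Set.image_pair, ← MonoidHom.range_eq_map, Subgroup.range_subtype]
    rfl
  obtain ⟨g, hg⟩ : ∃ g : closure ({t, s} : Set E), ¬ ∃ k : ℕ, g ^ p ^ k = 1 := by
    by_contra hc
    push Not at hc
    exact hnp hc
  obtain ⟨L, f, hf, -⟩ := PLocal.QuadSection.exists_hom_sl_two_zmod hp2 (⟨t, htL⟩ : closure ({t, s} : Set E))
    ⟨s, hsL⟩ hgen (ρ.comp (closure ({t, s} : Set E)).subtype) (quad_apply ht) (quad_apply hs) g (by
      rintro ⟨k, hk⟩
      apply hg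
      refine ⟨k, Subtype.ext (hρ ?_)⟩
      have h1 : ρ (g : E) ^ p ^ k = 1 := hk
      rw [Subgroup.coe_pow, map_pow, h1, Subgroup.coe_one, map_one])
  exact ⟨L, f, hf⟩

theorem dvd_card_sl : p ∣ Nat.card (Matrix.SpecialLinearGroup (Fin 2) (ZMod p)) := by
  have h1 : (PLocal.SL2Gen.up (1 : ZMod p)) ^ p = 1 := by
    rw [← PLocal.SL2Gen.up_nsmul, nsmul_one, CharP.cast_eq_zero, PLocal.SL2Gen.up_zero]
  have h2 : PLocal.SL2Gen.up (1 : ZMod p) ≠ 1 := by
    intro h
    have := congrFun (congrFun (congrArg Subtype.val h) 0) 1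
    simp [PLocal.SL2Gen.up] at this
  have h3 := orderOf_dvd_natCard (PLocal.SL2Gen.up (1 : ZMod p))
  rwa [orderOf_eq_prime h1 h2] at h3

theorem three_dvd_sl : 3 ∣ Nat.card (Matrix.SpecialLinearGroup (Fin 2) (ZMod p)) := by
  let g : Matrix.SpecialLinearGroup (Fin 2) (ZMod p) := ⟨!![0, -1; 1, -1], by simp [Matrix.det_fin_two]⟩
  have h1 : g ^ 3 = 1 := by
    apply Subtype.ext
    rw [pow_succ, pow_two, Matrix.SpecialLinearGroup.coe_mul, Matrix.SpecialLinearGroup.coe_mul,
      Matrix.SpecialLinearGroup.coe_one]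
    change !![(0 : ZMod p), -1; 1, -1] * !![(0 : ZMod p), -1; 1, -1] * !![(0 : ZMod p), -1; 1, -1] = 1
    rw [Matrix.one_fin_two]
    ext i j
    fin_cases i <;> fin_cases j <;> simp [Matrix.mul_apply, Fin.sum_univ_two]
  have h2 : g ≠ 1 := by
    intro h
    have := congrFun (congrFun (congrArg Subtype.val h) 1) 0
    simp [g] at this
  have h3 := orderOf_dvd_natCard g
  rwa [orderOf_eq_prime h1 h2] at h3

/-- **A quadratic element centralises every `p'`-subgroup it normalises**, `p > 3`. -/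
theorem comm_of_coprime (hp3 : 3 < p) {ρ : E →* Module.End (ZMod p) V} (hρ : Function.Injective ρ) {t : E}
    (ht : (ρ t - 1) ^ 2 = 0) {Q : Subgroup E} (hQ : (Nat.card Q).Coprime p) (hn : ∀ y ∈ Q, t * y * t⁻¹ ∈ Q) :
    ∀ y ∈ Q, t * y = y * t := by
  intro y hy
  -- all the powers of `t` normalise `Q`
  have htN : t ∈ normalizer (Q : Set E) := by
    have h1 : Q.map (MulAut.conj t).toMonoidHom = Q := by
      refine eq_of_le_of_card_ge ?_ (le_of_eq (card_map_of_injective (MulAut.conj t).injective).symm)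
      rintro _ ⟨z, hz, rfl⟩
      exact hn z hz
    rw [mem_normalizer_iff]
    intro z
    constructor
    · exact hn z
    · intro hz
      rw [← h1] at hz
      obtain ⟨w, hw, hwz⟩ := hz
      have : w = z := (MulAut.conj t).injective hwz
      rwa [← this]
  have hpow : ∀ (i : ℤ), ∀ z ∈ Q, t ^ i * z * (t ^ i)⁻¹ ∈ Q := fun i z hz =>
    (mem_normalizer_iff.1 (Subgroup.zpow_mem _ htN i) z).1 hz
  have hform : ∀ e ∈ closure ({t, y * t * y⁻¹} : Set E), ∃ q ∈ Q, ∃ i : ℤ, e = q * t ^ i := by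
    intro e he
    induction he using closure_induction with
    | mem x hx =>
      rcases hx with rfl | hx
      · exact ⟨1, one_mem _, 1, by simp⟩
      · rw [Set.mem_singleton_iff] at hx
        subst hx
        exact ⟨y * (t * y⁻¹ * t⁻¹), mul_mem hy (hn _ (inv_mem hy)), 1, by group⟩
    | one => exact ⟨1, one_mem _, 0, by simp⟩
    | mul a b _ _ ha hb =>
      obtain ⟨q, hq, i, rfl⟩ := ha
      obtain ⟨q', hq', j, rfl⟩ := hb
      exact ⟨q * (t ^ i * q' * (t ^ i)⁻¹), mul_mem hq (hpow i q' hq'), i + j, by rw [_root_.zpow_add]; group⟩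
    | inv a _ ha =>
      obtain ⟨q, hq, i, rfl⟩ := ha
      refine ⟨t ^ (-i) * q⁻¹ * (t ^ (-i))⁻¹, hpow (-i) _ (inv_mem hq), -i, by group⟩
  have hcomm : ∀ a ∈ closure ({t, y * t * y⁻¹} : Set E), ∀ b ∈ closure ({t, y * t * y⁻¹} : Set E),
      a * b * a⁻¹ * b⁻¹ ∈ Q := by
    intro a ha b hb
    obtain ⟨q, hq, i, rfl⟩ := hform a ha
    obtain ⟨q', hq', j, rfl⟩ := hform b hb
    have e : q * t ^ i * (q' * t ^ j) * (q * t ^ i)⁻¹ * (q' * t ^ j)⁻¹ =
        q * (t ^ i * q' * (t ^ i)⁻¹) * (t ^ j * q⁻¹ * (t ^ j)⁻¹) * q'⁻¹ := by group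
    rw [e]
    exact mul_mem (mul_mem (mul_mem hq (hpow i q' hq')) (hpow j _ (inv_mem hq))) (inv_mem hq')
  have hpg : IsPGroup p (closure ({t, y * t * y⁻¹} : Set E)) := by
    by_contra hnp
    obtain ⟨L, f, hf⟩ := exists_sl (by omega) hρ ht (quad_conj ht y) hnp
    have h1 : (⊤ : Subgroup (Matrix.SpecialLinearGroup (Fin 2) (ZMod p))) ≤
        (Q.comap ((closure ({t, y * t * y⁻¹} : Set E)).subtype.comp L.subtype)).map f := by
      rw [← PLocal.SL2Perfect.commutator_eq_top (p := p) (by omega) (by omega), _root_.commutator_def,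
        Subgroup.commutator_le]
      intro a _ b _
      obtain ⟨a, rfl⟩ := hf a
      obtain ⟨b, rfl⟩ := hf b
      refine ⟨a * b * a⁻¹ * b⁻¹, ?_, by rw [map_mul, map_mul, map_mul, map_inv, map_inv]; rfl⟩
      exact hcomm a a.1.2 b b.1.2
    have h2 : Nat.card (Matrix.SpecialLinearGroup (Fin 2) (ZMod p)) ∣ Nat.card Q := by
      have h3 : Nat.card (Matrix.SpecialLinearGroup (Fin 2) (ZMod p)) =
          Nat.card ((Q.comap ((closure ({t, y * t * y⁻¹} : Set E)).subtype.comp L.subtype)).map f) := by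
        rw [top_le_iff.1 h1, Subgroup.card_top]
      rw [h3]
      refine (card_map_dvd _ _).trans ?_
      exact card_comap_dvd_of_injective Q _
        ((closure ({t, y * t * y⁻¹} : Set E)).subtype_injective.comp L.subtype_injective)
    have h4 : p ∣ Nat.card Q := dvd_card_sl.trans h2
    have h5 := (Nat.Prime.coprime_iff_not_dvd hp.out).1 hQ.symm
    exact h5 h4
  have hmem : y * t * y⁻¹ * t⁻¹ ∈ closure ({t, y * t * y⁻¹} : Set E) :=
    mul_mem (subset_closure (by simp)) (inv_mem (subset_closure (by simp)))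
  have hmemQ : y * t * y⁻¹ * t⁻¹ ∈ Q := by
    have e : y * t * y⁻¹ * t⁻¹ = y * (t * y⁻¹ * t⁻¹) := by group
    rw [e]
    exact mul_mem hy (hn _ (inv_mem hy))
  have h1 : y * t * y⁻¹ * t⁻¹ = 1 := by
    obtain ⟨k, hk⟩ := hpg ⟨_, hmem⟩
    have hk' : (y * t * y⁻¹ * t⁻¹) ^ p ^ k = 1 := congrArg Subtype.val hk
    have h2 : orderOf (y * t * y⁻¹ * t⁻¹) ∣ Nat.card Q := by
      have := orderOf_dvd_natCard (⟨_, hmemQ⟩ : Q)
      rwa [← Subgroup.orderOf_coe] at this
    exact orderOf_eq_one_iff.1 (Nat.eq_one_of_dvd_coprimes (hQ.pow_right k) h2 (orderOf_dvd_of_pow_eq_one hk'))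
  rw [mul_inv_eq_one, mul_inv_eq_iff_eq_mul] at h1
  exact h1.symm

end Linear

/-- `l` is a quadratic element of the perfect group `L ≤ GL(V)` over `ZMod p`, and `π : L → K` is surjective with
a central kernel of order prime to `p`. -/
structure QD {p : ℕ} {L : Type u} [Group L] {V : Type v} [AddCommGroup V] [Module (ZMod p) V] {K : Type w} [Group K]
    (ρ : L →* Module.End (ZMod p) V) (π : L →* K) (l : L) : Prop where
  inj : Function.Injective ρ
  sq : (ρ l - 1) ^ 2 = 0
  surj : Function.Surjective π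
  cen : π.ker ≤ center L
  perf : commutator L = ⊤
  cop : (Nat.card π.ker).Coprime p

namespace QD

variable {p : ℕ} [hp : Fact p.Prime] {L : Type u} [Group L] [Finite L] {V : Type v} [AddCommGroup V]
  [Module (ZMod p) V] [Finite V] {K : Type w} [Group K]
  {ρ : L →* Module.End (ZMod p) V} {π : L →* K} {l : L}

theorem pow_eq (h : QD ρ π l) : (π l) ^ p = 1 := by
  rw [← map_pow, pow_eq_one h.inj h.sq, map_one]

/-- the `p'`-subgroups of `K` normalised by `π l` are centralised -/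
theorem comm (h : QD ρ π l) (hp3 : 3 < p) {Y : Subgroup K} (hY : (Nat.card Y).Coprime p)
    (hn : ∀ y ∈ Y, π l * y * (π l)⁻¹ ∈ Y) : ∀ y ∈ Y, π l * y = y * π l := by
  have h1 : (Nat.card (Y.comap π)).Coprime p := by
    rw [Nat.coprime_comm, Nat.Prime.coprime_iff_not_dvd hp.out]
    intro hd
    obtain ⟨z, hz⟩ := exists_prime_orderOf_dvd_card' (G := Y.comap π) p hd
    have hz' : orderOf (z : L) = p := by rw [Subgroup.orderOf_coe, hz]
    have h2 : orderOf (π (z : L)) ∣ p := by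
      rw [← hz']
      exact orderOf_map_dvd π _
    have h3 : orderOf (π (z : L)) ∣ Nat.card Y := by
      have := orderOf_dvd_natCard (⟨π (z : L), z.2⟩ : Y)
      rwa [← Subgroup.orderOf_coe] at this
    have h4 : π (z : L) = 1 := orderOf_eq_one_iff.1 (Nat.eq_one_of_dvd_coprimes hY h3 h2)
    have h5 : orderOf (z : L) ∣ Nat.card π.ker := by
      have := orderOf_dvd_natCard (⟨(z : L), h4⟩ : π.ker)
      rwa [← Subgroup.orderOf_coe] at this
    rw [hz'] at h5
    exact (Nat.Prime.coprime_iff_not_dvd hp.out).1 h.cop.symm h5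
  intro y hy
  obtain ⟨y, rfl⟩ := h.surj y
  have h2 := comm_of_coprime hp3 h.inj h.sq h1 (fun z hz => by
    change π (l * z * l⁻¹) ∈ Y
    rw [map_mul, map_mul, map_inv]
    exact hn _ hz) y hy
  rw [← map_mul, h2, map_mul]

/-- Baer–Suzuki -/
theorem exists_conj (h : QD ρ π l) [IsSimpleGroup K] (hne : π l ≠ 1) :
    ∃ g : L, ¬ IsPGroup p (closure ({l, g * l * g⁻¹} : Set L)) := by
  by_contra hcon
  push Not at hcon
  have hl := pow_eq_one h.inj h.sq
  have hfinK : Finite K := Finite.of_surjective π h.surj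
  have hz : IsPGroup p (zpowers l) := by
    rintro ⟨_, i, rfl⟩
    refine ⟨1, Subtype.ext ?_⟩
    change (l ^ i) ^ p ^ 1 = 1
    rw [pow_one, ← zpow_natCast, ← _root_.zpow_mul, mul_comm, _root_.zpow_mul, zpow_natCast, hl, _root_.one_zpow]
  obtain ⟨N, hN, hNp, hle⟩ := S0199.result (zpowers l) hz (fun g => by
    have h1 := hcon g
    have h2 : zpowers l ⊔ (zpowers l).map (MulAut.conj g).toMonoidHom = closure ({l, g * l * g⁻¹} : Set L) := by
      rw [MonoidHom.map_zpowers, zpowers_eq_closure, zpowers_eq_closure, ← Subgroup.closure_union, Set.singleton_union]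
      rfl
    rw [h2]
    exact h1)
  have hlN : l ∈ N := hle (mem_zpowers l)
  have hNK : (N.map π).Normal := hN.map π h.surj
  rcases hNK.eq_bot_or_eq_top with h1 | h1
  · apply hne
    have : π l ∈ N.map π := ⟨l, hlN, rfl⟩
    rw [h1] at this
    exact this
  · -- `K` would be a perfect `p`-group
    have hKp : IsPGroup p K := by
      have h2 : IsPGroup p (⊤ : Subgroup K) := by rw [← h1]; exact hNp.map _
      intro x
      obtain ⟨k, hk⟩ := h2 ⟨x, trivial⟩
      exact ⟨k, congrArg Subtype.val hk⟩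
    have hnil : Group.IsNilpotent K := hKp.isNilpotent
    have hKc : commutator K = ⊤ := by
      rw [_root_.commutator_def, ← Subgroup.map_top_of_surjective π h.surj, ← Subgroup.map_commutator,
        ← _root_.commutator_def, h.perf]
    have hsol : Group.IsSolvable K := inferInstance
    have := hsol.commutator_lt_top_of_nontrivial
    exact this.ne hKc

/-- an involution commuting with `l` -/
theorem exists_involution (h : QD ρ π l) (hp2 : p ≠ 2) [IsSimpleGroup K] (hne : π l ≠ 1) :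
    ∃ j : L, j ≠ 1 ∧ j * j = 1 ∧ j * l = l * j := by
  obtain ⟨g, hg⟩ := h.exists_conj hne
  obtain ⟨j, -, h1, h2, h3, -⟩ := H879.QuadPair.exists_involution hp2 ρ h.inj h.sq (quad_conj h.sq g) hg
  exact ⟨j, h1, h2, h3⟩

theorem three_dvd (h : QD ρ π l) (hp2 : p ≠ 2) [IsSimpleGroup K] (hne : π l ≠ 1) : 3 ∣ Nat.card L := by
  obtain ⟨g, hg⟩ := h.exists_conj hne
  obtain ⟨L', f, hf⟩ := exists_sl hp2 h.inj h.sq (quad_conj h.sq g) hg
  have h1 : Nat.card (Matrix.SpecialLinearGroup (Fin 2) (ZMod p)) ∣ Nat.card L' :=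
    card_dvd_of_surjective f hf
  exact three_dvd_sl.trans (h1.trans ((card_subgroup_dvd_card _).trans (card_subgroup_dvd_card _)))

/-- the Sylow `2`-subgroups of `L` are not abelian -/
theorem sylow_two (h : QD ρ π l) (hp3 : 3 < p) [IsSimpleGroup K] (hne : π l ≠ 1)
    (hT : ∀ T : Subgroup L, IsPGroup 2 T → ∀ x ∈ T, ∀ y ∈ T, x * y = y * x) : False := by
  have h2p : Fact (Nat.Prime 2) := ⟨Nat.prime_two⟩
  obtain ⟨g, hg⟩ := h.exists_conj hne
  obtain ⟨L', f, hf⟩ := exists_sl (by omega) h.inj h.sq (quad_conj h.sq g) hg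
  obtain ⟨T⟩ : Nonempty (Sylow 2 L') := inferInstance
  let T' := T.mapSurjective hf
  have h1 : IsPGroup p (Matrix.SpecialLinearGroup (Fin 2) (ZMod p)) := by
    refine PLocal.SLTwoSylow.isPGroup_of_sylow_two_comm (k := ZMod p) (by omega) (MonoidHom.id _)
      Function.injective_id ?_ T' ?_
    · refine PLocal.SL2Gen.eq_top_of_forall _ (fun t => subset_closure ⟨1, ?_⟩) (fun t => subset_closure ⟨1, ?_⟩)
      · rw [pow_one, ← PLocal.SL2Gen.up_nsmul, nsmul_eq_mul, CharP.cast_eq_zero, zero_mul, PLocal.SL2Gen.up_zero]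
      · rw [pow_one, ← PLocal.SL2Gen.lo_nsmul, nsmul_eq_mul, CharP.cast_eq_zero, zero_mul, PLocal.SL2Gen.lo_zero]
    · rintro x ⟨x, hx, rfl⟩ y ⟨y, hy, rfl⟩
      have h3 := hT (((T : Subgroup L').map L'.subtype).map (closure ({l, g * l * g⁻¹} : Set L)).subtype)
        ((T.isPGroup'.map _).map _) _ ⟨_, ⟨x, hx, rfl⟩, rfl⟩ _ ⟨_, ⟨y, hy, rfl⟩, rfl⟩
      have h4 : x * y = y * x := Subtype.ext (Subtype.ext h3)
      rw [← map_mul, h4, map_mul]
  have h3 : 3 ∣ Nat.card (Matrix.SpecialLinearGroup (Fin 2) (ZMod p)) := three_dvd_sl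
  obtain ⟨n, hn⟩ := IsPGroup.iff_card.1 h1
  rw [hn] at h3
  have := (Nat.prime_dvd_prime_iff_eq Nat.prime_three hp.out).1 (Nat.prime_three.dvd_of_dvd_pow h3)
  omega

end QD

end Cfsg.Agent.H25.S30
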