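import Cfsg.Agent.H25.S30Chief
import Cfsg.Agent.H35.Cubic2

/-!
# S1930 modulo the simple factors

* `induced_normal` : `A ≤ Aut G` an `r`-group, `r ∤ |G|`, `C_G(O_p(G)) ≤ O_p(G)`, `P` the intersection of the
  `A`-invariant Sylow `p`-subgroups: if there is no `Pack p r`, the lower K-infinity subgroup of `P` is normal in `G`.
-/

set_option autoImplicit false

namespace Cfsg.Agent.H25.S30

open Subgroup Cfsg Cfsg.Agent.H35.KSeq Cfsg.Agent.H35.Cubic2 Cfsg.Agent.H35.Cubic
open scoped commutatorElement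

universe u

theorem centralizer_le_of {Γ : Type*} [Group Γ] {p r : ℕ} [hp : Fact p.Prime] [hr : Fact r.Prime] (hpr : p ≠ r)
    {H T : Subgroup Γ} [hH : H.Normal] [hTn : T.Normal] (hT : IsPGroup p T)
    (hHT : H ⊓ centralizer (T : Set Γ) ≤ T) (hΓ : ∀ c : Γ, ∃ n : ℕ, c ^ r ^ n ∈ H)
    (hf : ∀ y : Γ, (∃ n : ℕ, y ^ r ^ n = 1) → (∀ h ∈ H, y * h = h * y) → y = 1) :
    centralizer (T : Set Γ) ≤ T := by
  intro c hc
  obtain ⟨n, hn⟩ := hΓ c
  have h1 : c ^ r ^ n ∈ T := hHT ⟨hn, pow_mem hc _⟩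
  obtain ⟨m, hm⟩ := hT ⟨_, h1⟩
  have hm' : (c ^ r ^ n) ^ p ^ m = 1 := congrArg Subtype.val hm
  have hCn : (centralizer (T : Set Γ)).Normal := normal_centralizer
  have hyc : c ^ p ^ m ∈ centralizer (T : Set Γ) := pow_mem hc _
  have hy : c ^ p ^ m = 1 := by
    apply hf
    · exact ⟨n, by rw [← pow_mul, mul_comm, pow_mul, hm']⟩
    · intro h hh
      set y := c ^ p ^ m with hydef
      have hz1 : y * h * y⁻¹ * h⁻¹ ∈ H := mul_mem (hH.conj_mem h hh y) (inv_mem hh)
      have hz2 : y * h * y⁻¹ * h⁻¹ ∈ centralizer (T : Set Γ) := by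
        have e : y * h * y⁻¹ * h⁻¹ = y * (h * y⁻¹ * h⁻¹) := by group
        rw [e]
        exact mul_mem hyc (hCn.conj_mem _ (inv_mem hyc) h)
      have hz3 : y * h * y⁻¹ * h⁻¹ ∈ T := hHT ⟨hz1, hz2⟩
      set z := y * h * y⁻¹ * h⁻¹ with hz
      have hyz : y * z * y⁻¹ = z := by
        rw [mul_inv_eq_iff_eq_mul]
        exact (mem_centralizer_iff.1 hyc z hz3).symm
      have h2 : ∀ k : ℕ, y ^ k * h * (y ^ k)⁻¹ = z ^ k * h := by
        intro k
        induction k with
        | zero => simp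
        | succ k ih =>
          have e : y ^ (k + 1) * h * (y ^ (k + 1))⁻¹ = y * (y ^ k * h * (y ^ k)⁻¹) * y⁻¹ := by
            rw [pow_succ']; group
          rw [e, ih]
          have e2 : y * (z ^ k * h) * y⁻¹ = (y * z ^ k * y⁻¹) * (y * h * y⁻¹ * h⁻¹) * h := by group
          rw [e2, ← hz, ← conj_pow, hyz, pow_succ]
      have h3 := h2 (r ^ n)
      have h4 : y ^ r ^ n = 1 := by rw [hydef, ← pow_mul, mul_comm, pow_mul, hm']
      rw [h4, one_mul, inv_one, mul_one] at h3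
      have h5 : z ^ r ^ n = 1 := by
        have := mul_right_cancel ((one_mul h).trans h3)
        exact this.symm
      obtain ⟨k, hk⟩ := hT ⟨z, hz3⟩
      have hk' : z ^ p ^ k = 1 := congrArg Subtype.val hk
      have h6 : z = 1 := by
        have hcop : (r ^ n).Coprime (p ^ k) :=
          Nat.Coprime.pow _ _ ((Nat.coprime_primes hr.out hp.out).2 (Ne.symm hpr))
        exact orderOf_eq_one_iff.1 (Nat.eq_one_of_dvd_coprimes hcop (orderOf_dvd_of_pow_eq_one h5)
          (orderOf_dvd_of_pow_eq_one hk'))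
      rw [hz, mul_inv_eq_one, mul_inv_eq_iff_eq_mul] at h6
      exact h6
  have hcop : (r ^ n).Coprime (p ^ m) :=
    Nat.Coprime.pow _ _ ((Nat.coprime_primes hr.out hp.out).2 (Ne.symm hpr))
  have hord : orderOf c ∣ p ^ m := orderOf_dvd_of_pow_eq_one hy
  obtain ⟨k, hk⟩ := exists_pow_eq_self_of_coprime (hcop.coprime_dvd_right hord)
  rw [← hk]
  exact pow_mem h1 k

/-- **Normality of the lower K-infinity subgroup.** -/
theorem induced_normal {G : Type u} [Group G] [Finite G] {p r : ℕ} [hp : Fact p.Prime] [hr : Fact r.Prime]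
    (hp3 : 3 < p) (hpr : p ≠ r) (A : Subgroup (MulAut G)) (hA : IsPGroup r A) (hrG : ¬ r ∣ Nat.card G)
    (hCG : centralizer (pCore p G : Set G) ≤ pCore p G) (hno : ¬ Pack p r) (P : Subgroup G)
    (hP : ∀ x, x ∈ P ↔ ∀ S : Sylow p G, (∀ a ∈ A, ∀ s ∈ S, a s ∈ S) → x ∈ S) :
    (inducedFunctor kInfLower P).Normal := by
  classical
  let Γ := G ⋊[A.subtype] A
  let i : G →* Γ := SemidirectProduct.inl
  let j : A →* Γ := SemidirectProduct.inr
  have hi : Function.Injective i := SemidirectProduct.inl_injective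
  let H : Subgroup Γ := i.range
  let R : Subgroup Γ := j.range
  have hHker : H = (SemidirectProduct.rightHom : Γ →* A).ker := SemidirectProduct.range_inl_eq_ker_rightHom
  have hHn : H.Normal := by rw [hHker]; infer_instance
  have hfΓ : Finite Γ := Finite.of_equiv _ (SemidirectProduct.equivProd (φ := A.subtype)).symm
  have hHR : H ⊔ R = ⊤ := by
    rw [eq_top_iff]
    intro x _
    rw [← SemidirectProduct.inl_left_mul_inr_right x]
    exact mul_mem (mem_sup_left ⟨_, rfl⟩) (mem_sup_right ⟨_, rfl⟩)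
  have hRp : IsPGroup r R := by
    rintro ⟨_, a, rfl⟩
    obtain ⟨n, hn⟩ := hA a
    refine ⟨n, Subtype.ext ?_⟩
    change j a ^ r ^ n = 1
    rw [← map_pow, hn, map_one]
  have hHcard : Nat.card H = Nat.card G :=
    (Nat.card_congr (MonoidHom.ofInjective hi).toEquiv).symm
  have hrH : ¬ r ∣ Nat.card H := by rw [hHcard]; exact hrG
  have hn : ∀ a ∈ R, ∀ t ∈ H, a * t * a⁻¹ ∈ H := fun a _ t ht => hHn.conj_mem t ht a
  have hconj : ∀ (a : A) (x : G), j a * i x * (j a)⁻¹ = i ((a : MulAut G) x) := by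
    intro a x
    have := SemidirectProduct.inl_aut (φ := A.subtype) a x
    rw [map_inv] at this
    exact this.symm
  have hleft : ∀ x : Γ, ∃ (y : G) (a : A), x = i y * j a := fun x =>
    ⟨x.left, x.right, (SemidirectProduct.inl_left_mul_inr_right x).symm⟩
  -- `O_p`
  have hpow : ∀ c : Γ, ∃ n : ℕ, c ^ r ^ n ∈ H := by
    intro c
    obtain ⟨n, hn⟩ := hA (SemidirectProduct.rightHom c)
    refine ⟨n, ?_⟩
    rw [hHker, MonoidHom.mem_ker, map_pow, hn]
  have hTn : (pCore p Γ).Normal := Cfsg.Agent.Lib.Cores.pCore_normal p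
  have hTp : IsPGroup p (pCore p Γ) := Cfsg.Agent.Lib.Cores.pCore_isPGroup p
  have hTH : pCore p Γ ≤ H := by
    intro x hx
    obtain ⟨n, hn⟩ := hpow x
    obtain ⟨m, hm⟩ := hTp ⟨x, hx⟩
    have hm' : x ^ p ^ m = 1 := congrArg Subtype.val hm
    have hcop : (r ^ n).Coprime (p ^ m) :=
      Nat.Coprime.pow _ _ ((Nat.coprime_primes hr.out hp.out).2 (Ne.symm hpr))
    obtain ⟨k, hk⟩ := exists_pow_eq_self_of_coprime (hcop.coprime_dvd_right (orderOf_dvd_of_pow_eq_one hm'))
    rw [← hk]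
    exact pow_mem hn k
  have hTcomap : (pCore p Γ).comap i ≤ pCore p G :=
    Cfsg.Agent.Lib.Cores.le_pCore (hTn.comap i) (hTp.comap_of_injective i hi)
  have hTmap : (pCore p G).map i ≤ pCore p Γ := by
    apply Cfsg.Agent.Lib.Cores.le_pCore
    · refine ⟨?_⟩
      rintro _ ⟨t, ht, rfl⟩ x
      obtain ⟨y, a, rfl⟩ := hleft x
      have e : i y * j a * i t * (i y * j a)⁻¹ = i (y * ((a : MulAut G) t) * y⁻¹) := by
        rw [map_mul, map_mul, map_inv, ← hconj, mul_inv_rev]
        simp only [mul_assoc]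
      rw [e]
      have h1 := Cfsg.Agent.Lib.Cores.pCore_characteristic (G := G) p
      have h2 : (a : MulAut G) t ∈ pCore p G := by
        have h3 := (Subgroup.characteristic_iff_map_eq.1 h1) (a : MulAut G)
        rw [← h3]
        exact ⟨t, ht, rfl⟩
      exact ⟨_, (Cfsg.Agent.Lib.Cores.pCore_normal p).conj_mem _ h2 y, rfl⟩
    · exact (Cfsg.Agent.Lib.Cores.pCore_isPGroup p).map i
  have hCΓ : centralizer (pCore p Γ : Set Γ) ≤ pCore p Γ := by
    refine centralizer_le_of hpr hTp (H := H) ?_ hpow ?_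
    · rintro _ ⟨⟨x, rfl⟩, hx⟩
      apply hTmap
      refine ⟨x, hCG ?_, rfl⟩
      rw [mem_centralizer_iff]
      intro t ht
      apply hi
      rw [map_mul, map_mul]
      exact mem_centralizer_iff.1 hx (i t) (hTmap ⟨t, ht, rfl⟩)
    · rintro y ⟨n, hn⟩ hy
      obtain ⟨x, a, rfl⟩ := hleft y
      have h1 : ∀ h : G, (a : MulAut G) h = x⁻¹ * h * x := by
        intro h
        apply hi
        have h2 := hy (i h) ⟨h, rfl⟩
        have h3 : i x * (j a * i h * (j a)⁻¹) * j a = i h * i x * j a := by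
          rw [← mul_assoc] at h2
          rw [← h2]
          simp only [mul_assoc, inv_mul_cancel, mul_one]
        rw [hconj] at h3
        have h4 := mul_right_cancel h3
        rw [map_mul, map_mul, map_inv, mul_assoc, ← h4, inv_mul_cancel_left]
      have h2 : (a : MulAut G) = MulAut.conj x⁻¹ := by
        ext h
        rw [h1, MulAut.conj_apply, inv_inv]
      have h3 : a = 1 := by
        have h4 : orderOf (a : MulAut G) ∣ Nat.card G := by
          rw [h2]
          exact (orderOf_map_dvd MulAut.conj x⁻¹).trans (orderOf_dvd_natCard _)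
        obtain ⟨m, hm⟩ := hA a
        have h5 : orderOf (a : MulAut G) ∣ r ^ m :=
          orderOf_dvd_of_pow_eq_one (congrArg Subtype.val hm)
        have hcop : (Nat.card G).Coprime (r ^ m) :=
          Nat.Coprime.pow_right _ ((Nat.Prime.coprime_iff_not_dvd hr.out).2 hrG).symm
        have h6 := orderOf_eq_one_iff.1 (Nat.eq_one_of_dvd_coprimes hcop h4 h5)
        exact Subtype.ext h6
      rw [h3, map_one, mul_one] at hn ⊢
      have h4 : x ^ r ^ n = 1 := by
        apply hi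
        rw [map_pow, hn, map_one]
      have hcop : (Nat.card G).Coprime (r ^ n) :=
        Nat.Coprime.pow_right _ ((Nat.Prime.coprime_iff_not_dvd hr.out).2 hrG).symm
      have h5 := orderOf_eq_one_iff.1 (Nat.eq_one_of_dvd_coprimes hcop (orderOf_dvd_natCard x)
        (orderOf_dvd_of_pow_eq_one h4))
      rw [h5, map_one]
  -- `P`
  have hTS : pCore p Γ ≤ P.map i := by
    intro x hx
    obtain ⟨x, rfl⟩ := hTH hx
    refine ⟨x, ?_, rfl⟩
    change x ∈ P
    rw [hP]
    intro S _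
    exact Cfsg.Agent.Lib.Cores.pCore_le_sylow S (hTcomap hx)
  have hInAll : ∀ g ∈ P.map i, InAll p R H g := by
    rintro _ ⟨x, hx, rfl⟩
    refine InAll.of_sylow hRp hrH ?_
    rintro S ⟨Q, rfl⟩ hinv
    have hle : (Q : Subgroup H).map H.subtype ≤ H := map_subtype_le _
    have h1 : ¬ p ∣ (((Q : Subgroup H).map H.subtype).comap i).index := by
      rw [index_comap]
      exact (not_dvd_relIndex_sylow ⟨Q, rfl⟩).2
    have h2 : IsPGroup p (((Q : Subgroup H).map H.subtype).comap i) :=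
      (Q.isPGroup'.map H.subtype).comap_of_injective i hi
    have h3 := (hP x).1 hx (h2.toSylow h1) (by
      intro a ha s hs
      change i (a s) ∈ (Q : Subgroup H).map H.subtype
      have h4 := hinv (j ⟨a, ha⟩) ⟨_, rfl⟩ (i s) hs
      rw [hconj] at h4
      exact h4)
    exact h3
  have hmain : (inducedFunctor kInfLower (P.map i)).Normal := by
    by_contra hcon
    obtain ⟨C, hCT, hCn, -, -, hC2, hTC, -, hA5⟩ := exists_critical (pCore p Γ) hTp
    obtain ⟨g, hgS, hgT, -, -, h4⟩ := exists_cubic hTS hCT hC2 hTC hA5 (Or.inl hcon)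
    obtain ⟨U, V, hUV, hUC, hq, hn'⟩ := h4 hCΓ
    exact hno (chief_case hp3 hRp hrH hn hHR hUV (hTp.to_le (hUC.trans hCT)) (hInAll g hgS) hq hn')
  rw [← inducedLower_map i hi P] at hmain
  have h1 := hmain.comap i
  rwa [comap_map_eq_self_of_injective hi] at h1

/-- **S1930 modulo the simple factors.** -/
theorem top {X : Type u} [Group X] [Finite X] (G R : Subgroup X) (r : ℕ) [hr : Fact r.Prime] (hR : IsPGroup r ↥R)
    (hcop : (Nat.card ↥G).Coprime r) (hnorm : R ≤ Subgroup.normalizer (G : Set X)) (hG : G ≠ ⊥) (p : ℕ)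
    [hp' : Fact p.Prime] (hp : 3 < p) (hCG : centralizer (pCore p G : Set G) ≤ pCore p G) (hno : ¬ Pack p r)
    (P : Subgroup X) (hP : P = ⨅ S : {S : Sylow p ↥G // ∀ a ∈ R, ((S : Subgroup ↥G).map G.subtype).map
      (MulAut.conj a).toMonoidHom = (S : Subgroup ↥G).map G.subtype}, ((S : Sylow p ↥G) : Subgroup ↥G).map G.subtype) :
    ∃ C : Subgroup ↥P, C.Characteristic ∧ C ≠ ⊥ ∧
      G ≤ Subgroup.normalizer ((C.map P.subtype : Subgroup X) : Set X) := by
  classical
  have hrG : ¬ r ∣ Nat.card G := (Nat.Prime.coprime_iff_not_dvd hr.out).1 hcop.symm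
  have hcore : pCore p G ≠ ⊥ := by
    intro h1
    rw [h1] at hCG
    apply hG
    rw [eq_bot_iff]
    intro x hx
    have h2 : (⟨x, hx⟩ : G) ∈ (⊥ : Subgroup G) := hCG (by
      rw [mem_centralizer_iff]
      intro y hy
      have h3 : y = 1 := hy
      rw [h3, one_mul, mul_one])
    rw [mem_bot] at h2 ⊢
    exact congrArg Subtype.val h2
  have hTp : IsPGroup p (pCore p G) := Cfsg.Agent.Lib.Cores.pCore_isPGroup p
  have hpr : p ≠ r := by
    rintro rfl
    apply hcore
    by_contra hnb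
    have hnt : Nontrivial (pCore p G) := (Subgroup.nontrivial_iff_ne_bot _).2 hnb
    obtain ⟨n, hn0, hn⟩ := (IsPGroup.nontrivial_iff_card hTp).mp hnt
    exact hrG ((dvd_pow_self p hn0.ne').trans (hn ▸ card_subgroup_dvd_card (pCore p G)))
  let φ : R →* MulAut G := G.normalizerMonoidHom.comp (inclusion hnorm)
  have hφ : ∀ (a : R) (x : G), ((φ a x : G) : X) = (a : X) * x * (a : X)⁻¹ := fun _ _ => rfl
  let A : Subgroup (MulAut G) := φ.range
  have hA : IsPGroup r A := by
    rintro ⟨_, a, rfl⟩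
    obtain ⟨n, hn⟩ := hR a
    refine ⟨n, Subtype.ext ?_⟩
    change φ a ^ r ^ n = 1
    rw [← map_pow, hn, map_one]
  -- the invariant Sylow subgroups
  have hinv : ∀ S : Sylow p G, (∀ a ∈ R, ((S : Subgroup ↥G).map G.subtype).map
      (MulAut.conj a).toMonoidHom = (S : Subgroup ↥G).map G.subtype) ↔ (∀ a ∈ A, ∀ s ∈ S, a s ∈ S) := by
    intro S
    constructor
    · rintro h _ ⟨a, rfl⟩ s hs
      have h1 : (a : X) * s * (a : X)⁻¹ ∈ ((S : Subgroup ↥G).map G.subtype).map
          (MulAut.conj (a : X)).toMonoidHom := ⟨s, ⟨s, hs, rfl⟩, rfl⟩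
      rw [h a a.2] at h1
      obtain ⟨s', hs', h2⟩ := h1
      have h3 : s' = φ a s := Subtype.ext h2
      rw [← h3]
      exact hs'
    · intro h a ha
      refine eq_of_le_of_card_ge ?_ (le_of_eq (card_map_of_injective (MulAut.conj a).injective).symm)
      rintro _ ⟨_, ⟨s, hs, rfl⟩, rfl⟩
      exact ⟨φ ⟨a, ha⟩ s, h _ ⟨⟨a, ha⟩, rfl⟩ s hs, rfl⟩
  let P₀ : Subgroup G := ⨅ S : {S : Sylow p ↥G // ∀ a ∈ R, ((S : Subgroup ↥G).map G.subtype).map
      (MulAut.conj a).toMonoidHom = (S : Subgroup ↥G).map G.subtype}, ((S : Sylow p ↥G) : Subgroup ↥G)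
  have hP₀ : ∀ x, x ∈ P₀ ↔ ∀ S : Sylow p G, (∀ a ∈ A, ∀ s ∈ S, a s ∈ S) → x ∈ S := by
    intro x
    rw [mem_iInf]
    constructor
    · intro h S hS
      exact h ⟨S, (hinv S).2 hS⟩
    · rintro h ⟨S, hS⟩
      exact h S ((hinv S).1 hS)
  have hne : Nonempty {S : Sylow p ↥G // ∀ a ∈ R, ((S : Subgroup ↥G).map G.subtype).map
      (MulAut.conj a).toMonoidHom = (S : Subgroup ↥G).map G.subtype} := by
    have hact : ∀ b ∈ R, ∀ u ∈ G, b * u * b⁻¹ ∈ G := fun b hb u hu => (mem_normalizer_iff.1 (hnorm hb) u).1 hu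
    obtain ⟨_, ⟨T, rfl⟩, hT⟩ := Lib.PGroupCoprimeAction.exists_invariant_sylow hR hrG hact p
    refine ⟨T, (hinv T).2 ?_⟩
    rintro _ ⟨a, rfl⟩ s hs
    obtain ⟨s', hs', h2⟩ := hT a a.2 s ⟨s, hs, rfl⟩
    have h3 : s' = φ a s := Subtype.ext h2
    rw [← h3]
    exact hs'
  have hPmap : P = P₀.map G.subtype := by
    rw [hP, Subgroup.map_iInf _ G.subtype_injective]
  have hPle : P ≤ G := by rw [hPmap]; exact map_subtype_le _
  have hnormal := induced_normal hp hpr A hA hrG hCG hno P₀ hP₀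
  have hPp : IsPGroup p P := by
    rw [hPmap]
    obtain ⟨S, hS⟩ := hne
    have h1 : P₀ ≤ (S : Subgroup G) := iInf_le (fun S : {S : Sylow p ↥G // ∀ a ∈ R, ((S : Subgroup ↥G).map
      G.subtype).map (MulAut.conj a).toMonoidHom = (S : Subgroup ↥G).map G.subtype} =>
        ((S : Sylow p ↥G) : Subgroup ↥G)) ⟨S, hS⟩
    exact (S.isPGroup'.to_le h1).map _
  have hPne : P ≠ ⊥ := by
    intro h1
    apply hcore
    rw [eq_bot_iff]
    intro x hx
    have h2 : (x : X) ∈ P := by
      rw [hPmap]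
      refine ⟨x, ?_, rfl⟩
      change x ∈ P₀
      rw [hP₀]
      intro S _
      exact Cfsg.Agent.Lib.Cores.pCore_le_sylow S hx
    rw [h1, mem_bot] at h2
    rw [mem_bot]
    exact Subtype.ext h2
  refine ⟨kInfLower P, ?_, ?_, ?_⟩
  · rw [Subgroup.characteristic_iff_map_eq]
    intro ψ
    exact kInfLower_map_equiv ψ
  · intro h1
    have hnt : Nontrivial P := (Subgroup.nontrivial_iff_ne_bot P).2 hPne
    have h2 := center_le_kInfLower hPp
    rw [h1, le_bot_iff] at h2
    have := hPp.center_nontrivial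
    exact (nontrivial_iff_ne_bot (center P)).1 inferInstance h2
  · have h1 : (kInfLower P).map P.subtype = (inducedFunctor kInfLower P₀).map G.subtype := by
      rw [inducedLower_map G.subtype G.subtype_injective, ← hPmap]
      rfl
    rw [h1]
    intro x hx
    rw [mem_normalizer_iff]
    intro y
    constructor
    · rintro ⟨z, hz, rfl⟩
      exact ⟨_, hnormal.conj_mem z hz ⟨x, hx⟩, rfl⟩
    · rintro ⟨z, hz, hzy⟩
      refine ⟨_, hnormal.conj_mem z hz ⟨x, hx⟩⁻¹, ?_⟩
      change x⁻¹ * (z : X) * x⁻¹⁻¹ = y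
      have h2 : (z : X) = x * y * x⁻¹ := hzy
      rw [h2]
      group

end Cfsg.Agent.H25.S30
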